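import Groth.Agent.Sga4h.H913.ConstFormula
import Groth.Agent.Sga4h.H616.TrConst
import Groth.Agent.Sga4h.H915.RatFix

/-!
# The defect of a constant sheaf modulo `p` vanishes, for every proper scheme
-/

set_option autoImplicit false
universe u

open CategoryTheory CategoryTheory.Limits AlgebraicGeometry Opposite

namespace Groth.Agent.Sga4h.H913.HConst

open Groth.Agent.Sga4h.H925.Defs Groth.Agent.Sga4h.H925.DetInv

variable {Λ : Type} [Field Λ] [Finite Λ] {k K : Type u} [Field k] [Fintype k] [Field K] [Algebra k K]
  [Algebra.IsAlgebraic k K] [IsSepClosed K] [Fact FinFr.PullExact.{u}]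

/-- The trace formula modulo `p` for a constant sheaf on a proper scheme, as a statement on the defect. -/
theorem defect_const (hΛ : ringChar Λ = ringChar k) {Z : Scheme.{u}}
    (z : Z ⟶ Spec (CommRingCat.of k)) [IsProper z] :
    defect K (traceInv Λ) z 1 (FinFr.constLam Λ Z) = 0 := by
  have : Finite (FinFr.RatPt z) := H915.RatFix.finite_ratPt k z
  rw [H616.TrLoc.defect_eq_zero_iff, H616.TrConst.loc_const z]
  exact (ConstFormula.formula Λ hΛ z).symm

end Groth.Agent.Sga4h.H913.HConst
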