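import Groth.Agent.Sga4h.H913.LinTrace

/-!
# Linear algebra of the trace formula modulo `p`: geometric Frobenius and `q`-power of the Frobenius

`k` finite with `q = p ^ f` elements, `W = K ⊗_k W₀`, `φ = φ₀ ⊗ Frob_p`, `g = 1 ⊗ Frob_q⁻¹`, `V = W^{φ = 1}`:
`Tr_{F_p}(g | V) = Tr_k(φ₀ ^ f | W₀)`.
-/

set_option autoImplicit false
universe u v w v'

namespace Groth.Agent.Sga4h.H913.LinFrob

open Groth.Agent.CurvesA.ASAlg

variable {k K : Type u} [Field k] [Field K] [Algebra k K] (p : ℕ) [hp : Fact p.Prime]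

variable {W₀ : Type v} {W : Type w} [AddCommGroup W₀] [Module k W₀] [AddCommGroup W] [Module K W]

theorem iterate_smul (φ : W →+ W) (hφ : ∀ (c : K) (w : W), φ (c • w) = c ^ p • φ w) (n : ℕ) (c : K)
    (w : W) : φ^[n] (c • w) = c ^ (p ^ n) • φ^[n] w := by
  induction n with
  | zero => simp
  | succ n ih =>
    rw [Function.iterate_succ_apply', ih, hφ, ← pow_mul, ← pow_succ, Function.iterate_succ_apply']

theorem iterate_add (φ : W →+ W) (n : ℕ) (x y : W) : φ^[n] (x + y) = φ^[n] x + φ^[n] y := by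
  induction n with
  | zero => rfl
  | succ n ih => rw [Function.iterate_succ_apply', ih, map_add, Function.iterate_succ_apply',
      Function.iterate_succ_apply']

theorem iterate_zero' (φ : W →+ W) (n : ℕ) : φ^[n] 0 = 0 := by
  induction n with
  | zero => rfl
  | succ n ih => rw [Function.iterate_succ_apply', ih, map_zero]

/-- **Linear algebra of the trace formula modulo `p`.** -/
theorem trace_formula [IsSepClosed K] [FiniteDimensional k W₀] [Module k W] [IsScalarTower k K W]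
    (h0 : (p : K) = 0) (f : ℕ) (hf : 0 < f)
    (ρ : W₀ →ₗ[k] W) (hρ : IsBaseChange K ρ)
    (φ₀ : W₀ →+ W₀)
    (φ : W →+ W) (hφ : ∀ (c : K) (w : W), φ (c • w) = c ^ p • φ w) (hρφ : ∀ x, φ (ρ x) = ρ (φ₀ x))
    (τ : K → K) (hτ : ∀ c, τ (c ^ (p ^ f)) = c)
    (g : W →+ W) (hg : ∀ (c : K) (w : W), g (c • w) = τ c • g w) (hgρ : ∀ x, g (ρ x) = ρ x)
    {V : Type v'} [AddCommGroup V] [Module (ZMod p) V] (α : V →+ W) (hα : Function.Injective α)
    (hr : ∀ w, (∃ v, α v = w) ↔ φ w = w)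
    (hs : ∀ (a : ZMod p) (v : V), α (a • v) = zmodHom K p h0 a • α v)
    (F : V →ₗ[ZMod p] V) (hF : ∀ v, α (F v) = g (α v))
    (T₀ : W₀ →ₗ[k] W₀) (hT₀ : ∀ x, T₀ x = φ₀^[f] x) :
    Module.Finite (ZMod p) V ∧
    algebraMap k K (LinearMap.trace k W₀ T₀) = zmodHom K p h0 (LinearMap.trace (ZMod p) V F) := by
  have hfd : Module.Finite K W := Module.Finite.equiv hρ.equiv
  -- the extension of `T₀`
  let T : W →ₗ[K] W := hρ.equiv.conj (T₀.baseChange K)
  have hT : ∀ x, T (ρ x) = ρ (T₀ x) := by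
    intro x
    change hρ.equiv ((T₀.baseChange K) (hρ.equiv.symm (ρ x))) = _
    rw [hρ.equiv_symm_apply, LinearMap.baseChange_tmul, hρ.equiv_tmul, one_smul]
  have htr : LinearMap.trace K W T = algebraMap k K (LinearMap.trace k W₀ T₀) := by
    rw [LinearMap.trace_conj', LinearMap.trace_baseChange]
  rw [← htr]
  have hρφn : ∀ (n : ℕ) (x : W₀), φ^[n] (ρ x) = ρ (φ₀^[n] x) := by
    intro n x
    induction n with
    | zero => rfl
    | succ n ih => rw [Function.iterate_succ_apply', ih, hρφ, Function.iterate_succ_apply']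
  have hgφ : ∀ w, g (φ^[f] w) = T w := by
    intro w
    refine hρ.inductionOn w _ ?_ ?_ ?_ ?_
    · rw [iterate_zero', map_zero, map_zero]
    · intro x
      rw [hρφn, hgρ, hT, hT₀]
    · intro c w hw
      rw [iterate_smul p φ hφ, hg, hτ, hw, map_smul]
    · intro x y hx hy
      rw [iterate_add, map_add, hx, hy, map_add]
  have hfix : ∀ (n : ℕ) (w : W), φ w = w → φ^[n] w = w := by
    intro n w hw
    induction n with
    | zero => rfl
    | succ n ih => rw [Function.iterate_succ_apply', ih, hw]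
  have hTα : ∀ v, T (α v) = α (F v) := by
    intro v
    rw [← hgφ, hfix f _ ((hr _).1 ⟨v, rfl⟩), hF]
  obtain ⟨n₀, hn₀⟩ := LinTrace.iterate_mem_span_fixed p φ h0 hφ
  refine LinTrace.trace_eq p φ h0 hφ α hα hr hs F T hTα n₀ ?_
  have hTn : ∀ (n : ℕ) (x : W₀), (T ^ n) (ρ x) = ρ (φ₀^[f * n] x) := by
    intro n x
    induction n generalizing x with
    | zero => rfl
    | succ n ih =>
      rw [pow_succ, Module.End.mul_apply, hT, ih, hT₀, ← Function.iterate_add_apply, Nat.mul_succ]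
  intro w
  refine hn₀ (f * n₀) (Nat.le_mul_of_pos_left n₀ hf) ?_
  refine hρ.inductionOn w _ ?_ ?_ ?_ ?_
  · rw [map_zero]; exact Submodule.zero_mem _
  · intro x
    rw [hTn, ← hρφn]
    exact Submodule.subset_span ⟨_, rfl⟩
  · intro c w hw
    rw [map_smul]
    exact Submodule.smul_mem _ _ hw
  · intro x y hx hy
    rw [map_add]
    exact Submodule.add_mem _ hx hy

end Groth.Agent.Sga4h.H913.LinFrob
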