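import Groth.Agent.Sga4h.H913.ConstP2
import Groth.Agent.Sga4h.H569.LinDet

/-!
# Determinants: the geometric Frobenius on `H^n(Y_K, ℤ/p)` and the `q`-power map on `H^n(Y, O_Y)`
-/

set_option autoImplicit false
universe u

open CategoryTheory CategoryTheory.Limits AlgebraicGeometry Opposite CategoryTheory.Abelian

namespace Groth.Agent.Sga4h.H913.ConstDet

open Groth.Agent.Cohder Groth.Agent.Cohder.GaScalar Groth.Agent.Etcore.PullCoh GaFun GaPull GaBC ASX
open Groth.Agent.CurvesA Dict ConstP Groth.Agent.Sga4h.H925.Defs GaZarTr Groth.Agent.Pi1B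
open Groth.Agent.Etcore.HpullCalc Groth.Agent.Etcore.HQ TopologicalSpace Groth.Agent.Etbase
open Groth.Agent.Sga4h.H569.DetRev Groth.Agent.Etcore Polynomial

attribute [local instance] pfl

section Short

open scoped Groth.Agent.Etcore.EtInst Groth.Agent.Etbase.ZarEt530
open Groth.Agent.Etcore.EtInst

theorem conj_main {X : Scheme.{u}} {p : ℕ} [Fact p.Prime] {k : Type u} [Field k]
    (b : X ⟶ Spec (CommRingCat.of k)) (hX : (p : Γ(X, ⊤)) = 0) (f : ℕ)
    (n : ℕ) {M : Type u} [AddCommGroup M] [Module k M]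
    (e : M →+ ZarEt530.ZH ((ZarUlift.UL (Opens.grothendieckTopology X)).obj (GaZar.OX X)) n)
    (he : Function.Bijective e)
    (hs : ∀ (c : k) (x : M), e (c • x) = (e x).comp
      (Ext.mk₀ ((ZarUlift.UL (Opens.grothendieckTopology X)).map
        (Coh.smulAb (Coh.structureModule X) (GaScalar.str b c)))) (add_zero n))
    (t : M →ₗ[k] M)
    (ht : ∀ x, e (t x) = (e x).comp
      (Ext.mk₀ ((ZarUlift.UL (Opens.grothendieckTopology X)).map (powZ hX f))) (add_zero n)) :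
    letI := gaMod b n
    ∃ (E : M ≃ₗ[k] HH X (EtCoh.Ga X) n)
      (T : HH X (EtCoh.Ga X) n →ₗ[k] HH X (EtCoh.Ga X) n),
      (∀ x, T x = (HHmap (phi hX) n)^[f] x) ∧ ∀ x, E (t x) = T (E x) := by
  let _ := gaMod b n
  obtain ⟨E, hE⟩ := exists_linEquiv b n e he hs
  have h1 : ∀ x, E (t x) = (HHmap (phi hX) n)^[f] (E x) := by
    intro x
    rw [← HHmap_phiN, hE, hE, ht, c2_nat (powZ hX f) (phiN hX f) (fun U s => by
      rw [fn_phiN, fn_ofFn, sec_powZ, map_pow]
      rfl)]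
  refine ⟨E, E.conj t, ?_, ?_⟩
  · intro x
    rw [LinearEquiv.conj_apply, LinearMap.comp_apply, LinearMap.comp_apply]
    change E (t (E.symm x)) = _
    rw [h1, E.apply_symm_apply]
  · intro x
    rw [LinearEquiv.conj_apply, LinearMap.comp_apply, LinearMap.comp_apply]
    change _ = E (t (E.symm (E x)))
    rw [E.symm_apply_apply]

variable {k : Type u} [Field k] {K : Type u} [Field K] [Algebra k K]

/-- Version of `ConstP.trace_eq'` for determinants. -/
theorem det_eq' {X Y : Scheme.{u}} {π : X ⟶ Y} {s : X ⟶ Spec (CommRingCat.of K)}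
    {b : Y ⟶ Spec (CommRingCat.of k)} {p : ℕ} [CompactSpace Y] [QuasiSeparatedSpace Y]
    [IsAlgClosed K] [Fact p.Prime]
    (h : IsPullback π s b (FinFr.specι k K)) (hY : (p : Γ(Y, ⊤)) = 0)
    (hK : (p : K) = 0) (f : ℕ) (hf : 0 < f)
    (hfd : ∀ n, letI := gaMod b n; Module.Finite k (HH Y (EtCoh.Ga Y) n))
    (g : X ⟶ X) (w : g ≫ π = π) (σ : K →+* K)
    (ws : g ≫ s = s ≫ Spec.map (CommRingCat.ofHom σ)) (hσ : ∀ c, σ (c ^ (p ^ f)) = c) (n : ℕ)
    {V : Type (u + 1)} [AddCommGroup V] [Module (ZMod p) V]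
    (c : V ≃+ HQ (EtCoh.const Y (ZMod p)) π n) (F : V →ₗ[ZMod p] V)
    (hF : ∀ v, c (F v) = res (EtCoh.const Y (ZMod p)) g w n (c v))
    (T₀ : letI := gaMod b n; HH Y (EtCoh.Ga Y) n →ₗ[k] HH Y (EtCoh.Ga Y) n)
    (hT₀ : letI := gaMod b n; ∀ x, T₀ x = (HHmap (phi hY) n)^[f] x) :
      letI := gaMod b n
      (detRev T₀).map (algebraMap k K) = (detRev F).map (ASAlg.zmodHom K p hK) := by
  let _ := gaMod b n
  let _ := modk k s n
  let _ := gaMod s n
  let _ := isScalarTower_mod (k := k) s n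
  have hX : (p : Γ(X, ⊤)) = 0 := cast_zero s hK
  have : FiniteDimensional k (HH Y (EtCoh.Ga Y) n) := hfd n
  refine H569.LinDet.det_formula p hK f hf (rho π s b h.w n) (GaBC.isBaseChange h n)
    (HHmap (phi hY) n) (HHmap (phi hX) n) (phi_smul s hX n)
    (fun x => phi_gaPull hY hX n x) σ hσ (gaPull g n) (gaPull_semi g σ ws n)
    (fun x => gaPull_comp g π π w n x) ((HHmap (alpha π hY) n).comp c.toAddMonoidHom)
    ?_ ?_ F ?_ T₀ hT₀
  · exact (alpha_injective s π hY hX hK (fun m => finite_K h m (hfd m)) n).comp c.injective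
  · intro x
    rw [← exists_alpha_iff π hY hX n x]
    constructor
    · rintro ⟨v, hv⟩
      exact ⟨c v, hv⟩
    · rintro ⟨v, hv⟩
      refine ⟨c.symm v, ?_⟩
      rw [← hv]
      exact congrArg (HHmap (alpha π hY) n) (c.apply_symm_apply v)
  · intro v
    have h1 := alpha_res hY g w n (c v)
    rw [← hF] at h1
    exact h1

end Short

variable {k : Type u} [Field k] {K : Type u} [Field K] [Algebra k K]

theorem exists_E {X : Scheme.{u}} {p : ℕ} [Fact p.Prime]
    (b : X ⟶ Spec (CommRingCat.of k)) (hX : (p : Γ(X, ⊤)) = 0) (f : ℕ)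
    (φ : GaZar.OX X ⟶ GaZar.OX X)
    (hφ : ∀ (U : (X.Opens)ᵒᵖ) (a : X.ringCatSheaf.obj.obj U), φ.hom.app U a = a ^ p ^ f) (n : ℕ)
    (t : letI : X.Over (Spec (CommRingCat.of k)) := ⟨b⟩;
      Coh.HH X (Coh.structureModule X) n →ₗ[k] Coh.HH X (Coh.structureModule X) n)
    (ht : ∀ x, t x = Sheaf.H.map φ n x) :
    letI : X.Over (Spec (CommRingCat.of k)) := ⟨b⟩
    letI := gaMod b n
    ∃ (E : Coh.HH X (Coh.structureModule X) n ≃ₗ[k] EtInst.HH X (EtCoh.Ga X) n)
      (T : EtInst.HH X (EtCoh.Ga X) n →ₗ[k] EtInst.HH X (EtCoh.Ga X) n),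
      (∀ x, T x = (EtInst.HHmap (phi hX) n)^[f] x) ∧ ∀ x, E (t x) = T (E x) := by
  let _ : X.Over (Spec (CommRingCat.of k)) := ⟨b⟩
  let _ := gaMod b n
  have hc : Function.Bijective (GaFin104.c1 X n) := ZarUlift.hMap_bijective _ (GaZar.OX X) n
  have e := GaZarTr2.eq_powZ hX f φ hφ
  subst e
  exact conj_main b hX f n (GaFin104.c1 X n) hc (fun c x => GaFin104.c1_smul n _ x) t (fun x => by
    rw [ht]
    exact ZarUlift.hMap_naturality _ (powZ hX f) n x)

/-- **Determinants, coefficients `ℤ/p`.** -/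
theorem det_zmod [Fintype k] [Algebra.IsAlgebraic k K] [IsAlgClosed K] [Fact FinFr.PullExact.{u}]
    (p : ℕ) [Fact p.Prime] (hk : (p : k) = 0) (hK : (p : K) = 0) (f : ℕ) (hf : 0 < f)
    (hq : Fintype.card k = p ^ f) {Y : Scheme.{u}} (b : Y ⟶ Spec (CommRingCat.of k))
    [CompactSpace Y] [QuasiSeparatedSpace Y]
    (hfin : letI : Y.Over (Spec (CommRingCat.of k)) := ⟨b⟩
      ∀ n, Module.Finite k (Coh.HH Y (Coh.structureModule Y) n))
    (φ : GaZar.OX Y ⟶ GaZar.OX Y)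
    (hφ : ∀ (U : (Y.Opens)ᵒᵖ) (a : Y.ringCatSheaf.obj.obj U), φ.hom.app U a = a ^ Fintype.card k)
    (n : ℕ)
    (t : letI : Y.Over (Spec (CommRingCat.of k)) := ⟨b⟩;
      Coh.HH Y (Coh.structureModule Y) n →ₗ[k] Coh.HH Y (Coh.structureModule Y) n)
    (ht : ∀ x, t x = Sheaf.H.map φ n x) :
    letI : Y.Over (Spec (CommRingCat.of k)) := ⟨b⟩
    (detRev t).map (algebraMap k K) =
      (detRev (frobK K b (FinFr.constLam (ZMod p) Y) n)).map (ASAlg.zmodHom K p hK) := by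
  let _ : Y.Over (Spec (CommRingCat.of k)) := ⟨b⟩
  let _ := gaMod b n
  have hY : (p : Γ(Y, ⊤)) = 0 := cast_zero b hk
  have hpow : ∀ c : k, c ^ p ^ f = c := fun c => by rw [← hq, FiniteField.pow_card]
  have hφ' : ∀ (U : (Y.Opens)ᵒᵖ) (a : Y.ringCatSheaf.obj.obj U), φ.hom.app U a = a ^ p ^ f :=
    fun U a => by rw [hφ, hq]
  have hT := fun m => GaZarTr2.exists_T b hY f hpow m (hfin m) φ hφ'
  obtain ⟨E, T, hT1, hE⟩ := exists_E b hY f φ hφ' n t ht
  have h := det_eq' (π := FinFr.extπ K b) (s := FinFr.extStr K b)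
    (IsPullback.of_hasPullback b (FinFr.specι k K)) hY hK f hf (fun m => (hT m).1)
    (FinFr.galAct b (FinFr.arith k K).symm) (FinFr.galAct_fst b _)
    ((FinFr.arith k K).symm : K →+* K) (FinFr.galAct_snd b _) (arith_symm_pow p f hq) n
    (toHQ (ZMod p) b n) (frobK K b (FinFr.constLam (ZMod p) Y) n) (ConstP2.toHQ_frob (ZMod p) b n) T hT1
  have := hfin n
  rw [← h]
  exact congrArg (fun P => Polynomial.map (algebraMap k K) P) (detRev_conj E t T hE)

end Groth.Agent.Sga4h.H913.ConstDet
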