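import Groth.Agent.Sga4h.H913.GaBC
import Groth.Agent.CurvesA.ArtinSchreier
import Groth.Agent.Cohder.ASFinite

/-!
# The Artin–Schreier sequence for `π⁻¹ (ℤ/p)_Y` on `X`, `π : X ⟶ Y`

`alpha π : π⁻¹ (ℤ/p)_Y ⟶ G_a,X`; on cohomology over a separably closed field it is injective with image the
fixed vectors of the Frobenius.
-/

set_option autoImplicit false
universe u

open CategoryTheory CategoryTheory.Limits AlgebraicGeometry Opposite Abelian
open scoped Groth.Agent.Etcore.EtInst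
open Groth.Agent.Etcore.EtInst

namespace Groth.Agent.Sga4h.H913.ASX

open Groth.Agent.Cohder Groth.Agent.Cohder.GaScalar Groth.Agent.Etcore.PullCoh GaFun GaPull GaBC
open Groth.Agent.CurvesA.ArtinSchreier Groth.Agent.CurvesA
open Groth.Agent.Etcore.HpullCalc Groth.Agent.Etcore.HQ

attribute [local instance] pfl

variable {X Y Z : Scheme.{u}} (p : ℕ)

theorem cst_eq (X : Scheme.{u}) (M : Type) [AddCommGroup M] (m : ULift.{u + 1} M) :
    cst X M m = (toSheafify X.smallEtaleTopology ((Functor.const X.Etaleᵒᵖ).obj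
          (AddCommGrpCat.of (ULift.{u + 1} M)))).app (op (EtCoh.top X)) m :=
  rfl

theorem fn_constMap_cst (h : (p : Γ(X, ⊤)) = 0) (m : ULift.{u+1} (ZMod p)) :
    fn (U := EtCoh.top X) ((constMap X p h).hom.app (op (EtCoh.top X)) (cst X (ZMod p) m)) =
      ASAlg.zmodHom Γ((EtCoh.top X).left, ⊤) p (cast_eq_zero_of_etale X p h _) m.down :=
  congrArg ULift.down (toSheafify_constMap X p h (EtCoh.top X) m)

variable {p} {hY : (p : Γ(Y, ⊤)) = 0} {hX : (p : Γ(X, ⊤)) = 0}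

/-- `π⁻¹ (ℤ/p)_Y ⟶ G_a,X`. -/
noncomputable def alpha (π : X ⟶ Y) (hY : (p : Γ(Y, ⊤)) = 0) :
    (EtCoh.pull π).obj (EtCoh.const Y (ZMod p)) ⟶ EtCoh.Ga X :=
  (EtCoh.pull π).map (constMap Y p hY) ≫ hat π

theorem alpha_eq (π : X ⟶ Y) (hY : (p : Γ(Y, ⊤)) = 0) (hX : (p : Γ(X, ⊤)) = 0) :
    alpha π hY = (EtCore.pullConst π (ZMod p)).hom ≫ constMap X p hX := by
  refine pull_const_hom_ext π _ _ fun m => ?_
  rw [alpha, map_comp_app, map_comp_app, eta_map, hat_eta, pullConst_unit, map_res]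
  apply fn_injective (U := (EtCoh.bc π).obj (EtCoh.top Y))
  have h' := cast_eq_zero_of_etale X p hX ((EtCoh.bc π).obj (EtCoh.top Y))
  rw [fn_pb, fn_constMap_cst, fn_map, fn_constMap_cst, ASAlg.map_zmodHom (h' := h'),
    ASAlg.map_zmodHom (h' := h')]

/-- Compatibility with pull backs. -/
theorem pull_alpha (f : X ⟶ Y) (t : Y ⟶ Z) (f₀ : X ⟶ Z) (w : f ≫ t = f₀)
    (hZ : (p : Γ(Z, ⊤)) = 0) :
    (EtCoh.pull f).map (alpha t hZ) ≫ hat f = th f t f₀ w _ ≫ alpha f₀ hZ := by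
  rw [alpha, alpha, Functor.map_comp, Category.assoc, hat_comp f t f₀ w, ← Category.assoc, th_nat,
    Category.assoc]

section Frob

variable [Fact p.Prime]

/-- The Frobenius of `G_a`. -/
noncomputable def phi (hX : (p : Γ(X, ⊤)) = 0) : EtCoh.Ga X ⟶ EtCoh.Ga X := ASFinite.frob p hX

theorem fn_phi (hX : (p : Γ(X, ⊤)) = 0) (U : X.Etale) (s : EtCoh.sect (EtCoh.Ga X) U) :
    fn ((phi hX).hom.app (op U) s) = fn s ^ p := ASFinite.fn_frob p hX U s

theorem asMap_eq (hX : (p : Γ(X, ⊤)) = 0) : asMap X p hX = phi hX - 𝟙 _ := by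
  apply hom_ext
  intro U s
  have h1 : fn ((phi hX - 𝟙 _).hom.app (op U) s) = fn ((phi hX).hom.app (op U) s) - fn s := rfl
  rw [h1, fn_phi]
  rfl

theorem shortExact_const (hX : (p : Γ(X, ⊤)) = 0) :
    ∃ w : constMap X p hX ≫ (phi hX - 𝟙 _) = 0,
      (ShortComplex.mk (constMap X p hX) (phi hX - 𝟙 _) w).ShortExact := by
  have e := asMap_eq hX
  rw [← e]
  exact ⟨constMap_comp_asMap X p hX, shortExact X p hX⟩

/-- **Artin–Schreier sequence** for `π⁻¹ (ℤ/p)_Y`. -/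
theorem shortExact_alpha (π : X ⟶ Y) (hY : (p : Γ(Y, ⊤)) = 0) (hX : (p : Γ(X, ⊤)) = 0) :
    ∃ w : alpha π hY ≫ (phi hX - 𝟙 _) = 0,
      (ShortComplex.mk (alpha π hY) (phi hX - 𝟙 _) w).ShortExact := by
  obtain ⟨w, hS⟩ := shortExact_const hX
  have e := alpha_eq π hY hX
  have w' : alpha π hY ≫ (phi hX - 𝟙 _) = 0 := by
    rw [e, Category.assoc, w, comp_zero]
  refine ⟨w', ?_⟩
  refine ShortComplex.shortExact_of_iso ?_ hS
  refine ShortComplex.isoMk (EtCore.pullConst π (ZMod p)).symm (Iso.refl _) (Iso.refl _) ?_ ?_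
  · change (EtCore.pullConst π (ZMod p)).inv ≫ alpha π hY = constMap X p hX ≫ 𝟙 _
    rw [e, Iso.inv_hom_id_assoc, Category.comp_id]
  · exact (Category.id_comp _).trans (Category.comp_id _).symm

/-- Semilinearity of the Frobenius on cohomology. -/
theorem phi_smul {K : Type u} [CommRing K] (s : X ⟶ Spec (CommRingCat.of K))
    (hX : (p : Γ(X, ⊤)) = 0) (n : ℕ) (c : K) (x : HH X (EtCoh.Ga X) n) :
    letI := gaMod s n
    HHmap (phi hX) n (c • x) = c ^ p • HHmap (phi hX) n x := by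
  change HHmap (phi hX) n (HHmap (smulGa X (str s c)) n x) =
    HHmap (smulGa X (str s (c ^ p))) n (HHmap (phi hX) n x)
  rw [← HHmap_comp, ← HHmap_comp, smulGa_comp_pow (phi hX) p (fn_phi hX), map_pow]

theorem HHmap_sub_id {F : EtCoh.Ab X} (a : F ⟶ F) (n : ℕ) (x : HH X F n) :
    HHmap (a - 𝟙 F) n x = HHmap a n x - x := by
  rw [HHmap_apply, HHmap_apply, sub_eq_add_neg a, Ext.mk₀_add, Ext.comp_add, sub_eq_add_neg,
    Ext.mk₀_neg, Ext.comp_neg, Ext.comp_mk₀_id]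

variable {K : Type u} [Field K] [IsSepClosed K] (s : X ⟶ Spec (CommRingCat.of K))

theorem sub_surjective (hX : (p : Γ(X, ⊤)) = 0) (hK : (p : K) = 0) (n : ℕ)
    (hfd : letI := gaMod s n; Module.Finite K (HH X (EtCoh.Ga X) n)) :
    Function.Surjective (HHmap (phi hX - 𝟙 _) n) := by
  let _ := gaMod s n
  have : Module.Finite K (HH X (EtCoh.Ga X) n) := hfd
  intro x
  obtain ⟨y, hy⟩ := Sga67.QLinear.sub_surjective K p hK (HH X (EtCoh.Ga X) n)
    (HHmap (phi hX) n) (fun c v => phi_smul s hX n c v) (-x)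
  refine ⟨y, ?_⟩
  rw [HHmap_sub_id]
  have h : y - HHmap (phi hX) n y = -x := hy
  rw [← neg_sub, h, neg_neg]

/-- `H^n(X, π⁻¹ ℤ/p) → H^n(X, G_a)` is injective. -/
theorem alpha_injective (π : X ⟶ Y) (hY : (p : Γ(Y, ⊤)) = 0) (hX : (p : Γ(X, ⊤)) = 0)
    (hK : (p : K) = 0)
    (hfd : ∀ n, letI := gaMod s n; Module.Finite K (HH X (EtCoh.Ga X) n)) (n : ℕ) :
    Function.Injective (HHmap (alpha π hY) n) := by
  obtain ⟨w, hS⟩ := shortExact_alpha π hY hX
  cases n with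
  | zero => exact ExtSemi.post_injective_zero (alpha π hY) (phi hX - 𝟙 _) w hS (EtCoh.const X ℤ)
  | succ n =>
    exact ExtSemi.post_injective_succ (alpha π hY) (phi hX - 𝟙 _) w hS (EtCoh.const X ℤ) n
      (sub_surjective s hX hK n (hfd n))

omit s in
/-- The image of `H^n(X, π⁻¹ ℤ/p) → H^n(X, G_a)` consists of the fixed vectors. -/
theorem exists_alpha_iff (π : X ⟶ Y) (hY : (p : Γ(Y, ⊤)) = 0) (hX : (p : Γ(X, ⊤)) = 0)
    (n : ℕ) (x : HH X (EtCoh.Ga X) n) :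
    (∃ v, HHmap (alpha π hY) n v = x) ↔ HHmap (phi hX) n x = x := by
  obtain ⟨w, hS⟩ := shortExact_alpha π hY hX
  rw [← sub_eq_zero, ← HHmap_sub_id]
  constructor
  · rintro ⟨v, rfl⟩
    rw [← HHmap_comp, w, HSum.HHmap_zero]
  · intro h
    exact Ext.covariant_sequence_exact₂ (EtCoh.const X ℤ) hS x h

end Frob

end Groth.Agent.Sga4h.H913.ASX
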