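import Groth.Agent.Sga4h.H913.ConstP2
import Groth.Agent.Fixpt.H903.CountPts
import Groth.Agent.S0002
import Groth.Agent.Sga4h.H157.ConstExt

/-!
# The trace formula modulo `p` for constant coefficients

`b : Y ⟶ Spec k` proper, `k` finite, `Λ` a finite field with `ringChar Λ = ringChar k`:
`∑ (-1)^i Tr(F | H^i(Y_K, Λ)) = #Y(k)` in `Λ`.
-/

set_option autoImplicit false
universe u

open CategoryTheory CategoryTheory.Limits AlgebraicGeometry Opposite

namespace Groth.Agent.Sga4h.H913.ConstFormula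

open Groth.Agent.CurvesA Groth.Agent.Sga4h.H925.Defs

section Alg

variable {k : Type u} [Field k] (K : Type u) [Field K] [Algebra k K] (p : ℕ)

theorem algebraMap_zmodHom (hk : (p : k) = 0) (hK : (p : K) = 0) (a : ZMod p) :
    algebraMap k K (ASAlg.zmodHom k p hk a) = ASAlg.zmodHom K p hK a :=
  ASAlg.map_zmodHom p hk hK (algebraMap k K) a

end Alg

variable {k : Type u} [Field k] [Fintype k] {K : Type u} [Field K] [Algebra k K]
  [Algebra.IsAlgebraic k K] [Fact FinFr.PullExact.{u}]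

/-- The trace in each degree: `Tr(F | H^n(Y_K, ℤ/p)) = Tr(Frob_q | H^n(Y, O_Y))`, and finiteness. -/
theorem trace_zmod [IsSepClosed K] (p : ℕ) [Fact p.Prime] (hk : (p : k) = 0) {Y : Scheme.{u}}
    (b : Y ⟶ Spec (CommRingCat.of k)) [IsProper b]
    (φ : Coh.toAb (Coh.structureModule Y) ⟶ Coh.toAb (Coh.structureModule Y))
    (hφ : ∀ (U : (Y.Opens)ᵒᵖ) (a : Y.ringCatSheaf.obj.obj U), φ.hom.app U a = a ^ Fintype.card k)
    (n : ℕ) :
    letI : Y.Over (Spec (CommRingCat.of k)) := ⟨b⟩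
    Module.Finite (ZMod p) (HK K b (FinFr.constLam (ZMod p) Y) n) ∧
    FixPt.trAdd k (Coh.HH Y (Coh.structureModule Y) n) (Sheaf.H.map φ n) =
      ASAlg.zmodHom k p hk (LinearMap.trace (ZMod p) _
        (frobK K b (FinFr.constLam (ZMod p) Y) n)) := by
  let _ : Y.Over (Spec (CommRingCat.of k)) := ⟨b⟩
  have hp : IsProper (Y ↘ Spec (CommRingCat.of k)) := ‹IsProper b›
  have hK : (p : K) = 0 := by rw [← map_natCast (algebraMap k K), hk, map_zero]
  have : CharP k p := (CharP.charP_iff_prime_eq_zero (Fact.out : p.Prime)).2 hk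
  obtain ⟨f, -, hq⟩ := FiniteField.card k p
  have hc : CompactSpace Y := (quasiCompact_iff_compactSpace b).1 inferInstance
  have hs : QuasiSeparatedSpace Y := quasiSeparatedSpace_of_quasiSeparated b
  obtain ⟨h1, h2⟩ := ConstP2.main_zmod (K := K) p hk hK f f.pos hq b (fun m =>
    Groth.Agent.S0002.result k Y (Coh.structureModule Y)
      (Groth.Agent.Fdesc.StructMod.isCoh_structureModule Y) m) φ hφ n
  refine ⟨h1, (algebraMap k K).injective ?_⟩
  rw [h2, algebraMap_zmodHom K p hk hK]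

/-- **Trace formula modulo `p`, coefficients `ℤ/p`.** -/
theorem formula_zmod [IsSepClosed K] (p : ℕ) [Fact p.Prime] (hk : (p : k) = 0) {Y : Scheme.{u}}
    (b : Y ⟶ Spec (CommRingCat.of k)) [IsProper b] :
    ∑ᶠ i : ℕ, (-1 : ZMod p) ^ i * LinearMap.trace (ZMod p) _
        (frobK K b (FinFr.constLam (ZMod p) Y) i) =
      (Nat.card (FinFr.RatPt b) : ZMod p) := by
  let _ : Y.Over (Spec (CommRingCat.of k)) := ⟨b⟩
  have : CharP k p := (CharP.charP_iff_prime_eq_zero (Fact.out : p.Prime)).2 hk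
  obtain ⟨f, -, hq⟩ := FiniteField.card k p
  have hY : (p : Γ(Y, ⊤)) = 0 := Dict.cast_zero b hk
  let φ : Coh.toAb (Coh.structureModule Y) ⟶ Coh.toAb (Coh.structureModule Y) :=
    GaZarTr.powZ hY f
  have hφ : ∀ (U : (Y.Opens)ᵒᵖ) (a : Y.ringCatSheaf.obj.obj U),
      φ.hom.app U a = a ^ Fintype.card k := fun U a => by
    rw [hq]
    exact GaZarTr2.powZ_app hY f U a
  have h1 := Groth.Agent.Fixpt.H903.CountPts.card_ratPt_hom k b φ hφ
  apply (ASAlg.zmodHom k p hk).injective
  rw [map_natCast]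
  refine Eq.trans ?_ h1
  have h2 := AddMonoidHom.map_finsum_of_injective (ASAlg.zmodHom k p hk : ZMod p →+ k)
    (ASAlg.zmodHom k p hk).injective
    (fun i : ℕ => (-1 : ZMod p) ^ i * LinearMap.trace (ZMod p) _
        (frobK K b (FinFr.constLam (ZMod p) Y) i))
  refine Eq.trans h2 ?_
  refine finsum_congr fun i => ?_
  change ASAlg.zmodHom k p hk ((-1 : ZMod p) ^ i * LinearMap.trace (ZMod p) _
        (frobK K b (FinFr.constLam (ZMod p) Y) i)) = (-1 : k) ^ i *
          FixPt.trAdd k (Coh.HH Y (Coh.structureModule Y) i) (Sheaf.H.map φ i)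
  rw [map_mul, map_pow, map_neg, map_one, (trace_zmod (K := K) p hk b φ hφ i).2]

/-- **Trace formula modulo `p` for constant coefficients.** -/
theorem formula [IsSepClosed K] (Λ : Type) [Field Λ] [Finite Λ] (hΛ : ringChar Λ = ringChar k)
    {Y : Scheme.{u}} (b : Y ⟶ Spec (CommRingCat.of k)) [IsProper b] :
    ∑ᶠ i : ℕ, (-1 : Λ) ^ i * LinearMap.trace Λ _
        (FinFr.frob (K := K) b (FinFr.constLam Λ Y) i) =
      (Nat.card (FinFr.RatPt b) : Λ) := by
  let p := ringChar k
  have hp : p.Prime := CharP.char_is_prime k p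
  have : Fact p.Prime := ⟨hp⟩
  have hk : (p : k) = 0 := CharP.cast_eq_zero k p
  have : CharP Λ p := by
    have h := ringChar.charP Λ
    rwa [hΛ] at h
  let _ : Algebra (ZMod p) Λ := ZMod.algebra Λ p
  have h1 := Groth.Agent.Sga4h.H912.CoeffFrob.sum_trace_frob_eq (K := K) b
    (Groth.Agent.Sga4h.H157.ConstExt.isExtSh_const (ZMod p) Λ Y)
  refine h1.trans ?_
  rw [← map_natCast (algebraMap (ZMod p) Λ)]
  exact congrArg (algebraMap (ZMod p) Λ) (formula_zmod (K := K) p hk b)

end Groth.Agent.Sga4h.H913.ConstFormula
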