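import Groth.Agent.Sga4h.H913.GaZarTr2
import Groth.Agent.Etcore.HpullViaEq
import Groth.Agent.Sga4h.H925.Defs
import Mathlib.FieldTheory.Finite.Basic

/-!
# The geometric Frobenius on `H^n(Y_K, ℤ/p)` and the `q`-power map on `H^n(Y, O_Y)`, `Y` proper over a finite field
-/

set_option autoImplicit false
universe u

open CategoryTheory CategoryTheory.Limits AlgebraicGeometry Opposite CategoryTheory.Abelian
open scoped Groth.Agent.Etcore.EtInst
open Groth.Agent.Etcore.EtInst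

namespace Groth.Agent.Sga4h.H913.ConstP

open Groth.Agent.Cohder Groth.Agent.Cohder.GaScalar Groth.Agent.Etcore.PullCoh GaFun GaPull GaBC ASX
open Groth.Agent.CurvesA Dict
open Groth.Agent.Etcore.HpullCalc Groth.Agent.Etcore.HQ

attribute [local instance] pfl

section

variable {X Y Z : Scheme.{u}}

theorem th_eq (f : X ⟶ Y) (t : Y ⟶ Z) (f₀ : X ⟶ Z) (w : f ≫ t = f₀) (G : EtCoh.Ab Z) :
    th f t f₀ w G = (EtCore.pullComp f t).inv.app G ≫ (EtCore.pullCongr w).hom.app G := rfl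

theorem hpVia_eq_res (f : X ⟶ Y) (t : Y ⟶ Z) (f₀ : X ⟶ Z) (w : f ≫ t = f₀)
    (G : EtCoh.Ab Z) (n : ℕ) (x : HH Y ((EtCoh.pull t).obj G) n) :
    hpVia f t f₀ w G n x = res G f w n x := by
  rw [hpVia_apply, res_apply, th_eq]

theorem HpullVia_eq_res (f : X ⟶ Y) (t : Y ⟶ Z) (f₀ : X ⟶ Z) (w : f ≫ t = f₀)
    (G : EtCoh.Ab Z) (n : ℕ) (x : HH Y ((EtCoh.pull t).obj G) n) :
    @Eq (HH X ((EtCoh.pull f₀).obj G) n) (EtCore.HpullVia f t f₀ w G n x) (res G f w n x) :=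
  (HpullVia_apply_eq_hpVia f t f₀ w G n x).trans (hpVia_eq_res f t f₀ w G n x)

end

variable {k : Type u} [Field k] {K : Type u} [Field K] [Algebra k K]

theorem galH_eq_res [Fact FinFr.PullExact.{u}] {Y : Scheme.{u}} (b : Y ⟶ Spec (CommRingCat.of k))
    (σ : K ≃ₐ[k] K) (G : EtCoh.Ab Y) (n : ℕ)
    (x : HH (FinFr.ext K b) ((EtCoh.pull (FinFr.extπ K b)).obj G) n) :
    @Eq (HH (FinFr.ext K b) ((EtCoh.pull (FinFr.extπ K b)).obj G) n)
      (FinFr.galH b σ G n x) (res G (FinFr.galAct b σ) (FinFr.galAct_fst b σ) n x) :=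
  HpullVia_eq_res (FinFr.galAct b σ) (FinFr.extπ K b) (FinFr.extπ K b) (FinFr.galAct_fst b σ) G n x

theorem arith_symm_pow [Fintype k] [Algebra.IsAlgebraic k K] (p f : ℕ)
    (hf : Fintype.card k = p ^ f) (c : K) : (FinFr.arith k K).symm (c ^ p ^ f) = c := by
  rw [← hf]
  have h : FinFr.arith k K c = c ^ Fintype.card k := rfl
  rw [← h, AlgEquiv.symm_apply_apply]

/-- Version of `Dict.trace_eq` for a copy `V` of `H^n(X, π⁻¹ ℤ/p)`. -/
theorem trace_eq' {X Y : Scheme.{u}} {π : X ⟶ Y} {s : X ⟶ Spec (CommRingCat.of K)}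
    {b : Y ⟶ Spec (CommRingCat.of k)} {p : ℕ} [CompactSpace Y] [QuasiSeparatedSpace Y]
    [IsSepClosed K] [Fact p.Prime]
    (h : IsPullback π s b (FinFr.specι k K)) (hY : (p : Γ(Y, ⊤)) = 0)
    (hK : (p : K) = 0) (f : ℕ) (hf : 0 < f)
    (hfd : ∀ n, letI := gaMod b n; Module.Finite k (HH Y (EtCoh.Ga Y) n))
    (g : X ⟶ X) (w : g ≫ π = π) (σ : K →+* K)
    (ws : g ≫ s = s ≫ Spec.map (CommRingCat.ofHom σ)) (hσ : ∀ c, σ (c ^ (p ^ f)) = c) (n : ℕ)
    {V : Type (u + 1)} [AddCommGroup V] [Module (ZMod p) V]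
    (c : V ≃+ HQ (EtCoh.const Y (ZMod p)) π n) (F : V →ₗ[ZMod p] V)
    (hF : ∀ v, c (F v) = res (EtCoh.const Y (ZMod p)) g w n (c v))
    (T₀ : letI := gaMod b n; HH Y (EtCoh.Ga Y) n →ₗ[k] HH Y (EtCoh.Ga Y) n)
    (hT₀ : letI := gaMod b n; ∀ x, T₀ x = (HHmap (phi hY) n)^[f] x) :
    Module.Finite (ZMod p) V ∧
      letI := gaMod b n
      algebraMap k K (LinearMap.trace k _ T₀) =
        ASAlg.zmodHom K p hK (LinearMap.trace (ZMod p) V F) := by
  let _ := gaMod b n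
  let _ := modk k s n
  let _ := gaMod s n
  let _ := isScalarTower_mod (k := k) s n
  have hX : (p : Γ(X, ⊤)) = 0 := cast_zero s hK
  have : FiniteDimensional k (HH Y (EtCoh.Ga Y) n) := hfd n
  refine LinFrob.trace_formula p hK f hf (rho π s b h.w n) (GaBC.isBaseChange h n)
    (HHmap (phi hY) n) (HHmap (phi hX) n) (phi_smul s hX n)
    (fun x => phi_gaPull hY hX n x) σ hσ (gaPull g n) (gaPull_semi g σ ws n)
    (fun x => gaPull_comp g π π w n x) ((HHmap (alpha π hY) n).comp c.toAddMonoidHom)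
    ?_ ?_ (fun a v => zmod_smul hK _ a v) F ?_ T₀ hT₀
  · exact (alpha_injective s π hY hX hK (fun m => finite_K h m (hfd m)) n).comp c.injective
  · intro x
    rw [← exists_alpha_iff π hY hX n x]
    constructor
    · rintro ⟨v, hv⟩
      exact ⟨c v, hv⟩
    · rintro ⟨v, hv⟩
      refine ⟨c.symm v, ?_⟩
      rw [← hv]
      exact congrArg (HHmap (alpha π hY) n) (c.apply_symm_apply v)
  · intro v
    have h1 := alpha_res hY g w n (c v)
    rw [← hF] at h1
    exact h1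

open Groth.Agent.Sga4h.H925.Defs in
/-- The identity between the two versions of the cohomology group. -/
noncomputable def toHQ (Λ : Type) [CommRing Λ] {Y : Scheme.{u}} (b : Y ⟶ Spec (CommRingCat.of k))
    (n : ℕ) : HK K b (FinFr.constLam Λ Y) n ≃+ HQ (EtCoh.const Y Λ) (FinFr.extπ K b) n where
  toFun x := x
  invFun x := x
  left_inv _ := rfl
  right_inv _ := rfl
  map_add' _ _ := rfl

end Groth.Agent.Sga4h.H913.ConstP
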