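import Groth.Agent.Sga4h.H913.ConstP

/-!
# The trace of the geometric Frobenius on `H^n(Y_K, ℤ/p)` in terms of `H^n(Y, O_Y)`
-/

set_option autoImplicit false
universe u

open CategoryTheory CategoryTheory.Limits AlgebraicGeometry Opposite CategoryTheory.Abelian
open scoped Groth.Agent.Etcore.EtInst
open Groth.Agent.Etcore.EtInst

namespace Groth.Agent.Sga4h.H913.ConstP2

open Groth.Agent.Cohder Groth.Agent.Cohder.GaScalar Groth.Agent.Etcore.PullCoh GaFun GaPull GaBC ASX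
open Groth.Agent.CurvesA Dict ConstP Groth.Agent.Sga4h.H925.Defs
open Groth.Agent.Etcore.HpullCalc Groth.Agent.Etcore.HQ

attribute [local instance] pfl

variable {k : Type u} [Field k] {K : Type u} [Field K] [Algebra k K]

theorem toHQ_frob [Fintype k] [Algebra.IsAlgebraic k K] [Fact FinFr.PullExact.{u}]
    (Λ : Type) [CommRing Λ] {Y : Scheme.{u}} (b : Y ⟶ Spec (CommRingCat.of k)) (n : ℕ)
    (v : HK K b (FinFr.constLam Λ Y) n) :
    toHQ Λ b n (frobK K b (FinFr.constLam Λ Y) n v) =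
      res (EtCoh.const Y Λ) (FinFr.galAct b (FinFr.arith k K).symm)
        (FinFr.galAct_fst b (FinFr.arith k K).symm) n (toHQ Λ b n v) :=
  galH_eq_res b (FinFr.arith k K).symm (EtCoh.const Y Λ) n (toHQ Λ b n v)

/-- **Coefficients `ℤ/p`**: the trace of the geometric Frobenius on `H^n(Y_K, ℤ/p)` is the trace of the `q`-power map on
`H^n(Y, O_Y)`. -/
theorem main_zmod [Fintype k] [Algebra.IsAlgebraic k K] [IsSepClosed K] [Fact FinFr.PullExact.{u}]
    (p : ℕ) [Fact p.Prime] (hk : (p : k) = 0) (hK : (p : K) = 0) (f : ℕ) (hf : 0 < f)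
    (hq : Fintype.card k = p ^ f) {Y : Scheme.{u}} (b : Y ⟶ Spec (CommRingCat.of k))
    [CompactSpace Y] [QuasiSeparatedSpace Y]
    (hfin : letI : Y.Over (Spec (CommRingCat.of k)) := ⟨b⟩
      ∀ n, Module.Finite k (Coh.HH Y (Coh.structureModule Y) n))
    (φ : GaZar.OX Y ⟶ GaZar.OX Y)
    (hφ : ∀ (U : (Y.Opens)ᵒᵖ) (a : Y.ringCatSheaf.obj.obj U), φ.hom.app U a = a ^ Fintype.card k)
    (n : ℕ) :
    letI : Y.Over (Spec (CommRingCat.of k)) := ⟨b⟩
    Module.Finite (ZMod p) (HK K b (FinFr.constLam (ZMod p) Y) n) ∧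
    algebraMap k K (FixPt.trAdd k (Coh.HH Y (Coh.structureModule Y) n) (Sheaf.H.map φ n)) =
      ASAlg.zmodHom K p hK (LinearMap.trace (ZMod p) _
        (frobK K b (FinFr.constLam (ZMod p) Y) n)) := by
  let _ : Y.Over (Spec (CommRingCat.of k)) := ⟨b⟩
  let _ := gaMod b n
  have hY : (p : Γ(Y, ⊤)) = 0 := cast_zero b hk
  have hpow : ∀ c : k, c ^ p ^ f = c := fun c => by rw [← hq, FiniteField.pow_card]
  have hT := fun m => GaZarTr2.exists_T b hY f hpow m (hfin m) φ (fun U a => by rw [hφ, hq])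
  obtain ⟨-, T, hT1, hT2⟩ := hT n
  have h := trace_eq' (π := FinFr.extπ K b) (s := FinFr.extStr K b)
    (IsPullback.of_hasPullback b (FinFr.specι k K)) hY hK f hf (fun m => (hT m).1)
    (FinFr.galAct b (FinFr.arith k K).symm) (FinFr.galAct_fst b _)
    ((FinFr.arith k K).symm : K →+* K) (FinFr.galAct_snd b _) (arith_symm_pow p f hq) n
    (toHQ (ZMod p) b n) (frobK K b (FinFr.constLam (ZMod p) Y) n) (toHQ_frob (ZMod p) b n) T hT1
  exact ⟨h.1, (congrArg (algebraMap k K) hT2).symm.trans h.2⟩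

end Groth.Agent.Sga4h.H913.ConstP2
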