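import Groth.Agent.Sga4h.H913.ASX
import Groth.Agent.Sga4h.H913.LinFrob

/-!
# The dictionary between étale cohomology with `ℤ/p`-coefficients and `H^n(-, G_a)`, with Galois action
-/

set_option autoImplicit false
universe u

open CategoryTheory CategoryTheory.Limits AlgebraicGeometry Opposite Abelian
open scoped Groth.Agent.Etcore.EtInst
open Groth.Agent.Etcore.EtInst

namespace Groth.Agent.Sga4h.H913.Dict

open Groth.Agent.Cohder Groth.Agent.Cohder.GaScalar Groth.Agent.Etcore.PullCoh GaFun GaPull GaBC ASX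
open Groth.Agent.CurvesA
open Groth.Agent.Etcore.HpullCalc Groth.Agent.Etcore.HQ

attribute [local instance] pfl

variable {X Y : Scheme.{u}} {k : Type u} [Field k] {K : Type u} [Field K] [Algebra k K]
  {π : X ⟶ Y} {s : X ⟶ Spec (CommRingCat.of K)} {b : Y ⟶ Spec (CommRingCat.of k)} {p : ℕ}

theorem cast_zero {R : Type u} [CommRing R] (s : X ⟶ Spec (CommRingCat.of R)) (h : (p : R) = 0) :
    (p : Γ(X, ⊤)) = 0 := by
  rw [← map_natCast (str s), h, map_zero]

/-- `alpha` and relative pull backs. -/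
theorem alpha_res (hY : (p : Γ(Y, ⊤)) = 0) (g : X ⟶ X) (w : g ≫ π = π) (n : ℕ)
    (v : HQ (EtCoh.const Y (ZMod p)) π n) :
    HHmap (alpha π hY) n (res (EtCoh.const Y (ZMod p)) g w n v) =
      gaPull g n (HHmap (alpha π hY) n v) :=
  (gaPull_map g w (EtCoh.const Y (ZMod p)) (alpha π hY) (alpha π hY)
    (pull_alpha g π π w hY) n v).symm

theorem appTop_str_σ (g : X ⟶ X) (σ : K →+* K)
    (ws : g ≫ s = s ≫ Spec.map (CommRingCat.ofHom σ)) (c : K) :
    g.appTop.hom (str s c) = str s (σ c) := by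
  have h1 : (s.appTop ≫ g.appTop) = (Spec.map (CommRingCat.ofHom σ)).appTop ≫ s.appTop := by
    rw [← Scheme.Hom.comp_appTop, ← Scheme.Hom.comp_appTop, ws]
  have h2 := Scheme.ΓSpecIso_inv_naturality (CommRingCat.ofHom σ)
  have h3 := congr($(h1).hom ((Scheme.ΓSpecIso (CommRingCat.of K)).inv.hom c))
  have h4 := congr($(h2).hom c)
  refine h3.trans ?_
  change s.appTop.hom ((Spec.map (CommRingCat.ofHom σ)).appTop.hom
    ((Scheme.ΓSpecIso (CommRingCat.of K)).inv.hom c)) = s.appTop.hom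
      ((Scheme.ΓSpecIso (CommRingCat.of K)).inv.hom (σ c))
  congr 1
  exact h4.symm

/-- Semilinearity of `gaPull g`. -/
theorem gaPull_semi (g : X ⟶ X) (σ : K →+* K)
    (ws : g ≫ s = s ≫ Spec.map (CommRingCat.ofHom σ)) (n : ℕ) (c : K) (x : HH X (EtCoh.Ga X) n) :
    letI := gaMod s n
    gaPull g n (c • x) = σ c • gaPull g n x := by
  change gaPull g n (HHmap (smulGa X (str s c)) n x) = HHmap (smulGa X (str s (σ c))) n (gaPull g n x)
  rw [gaPull_smul, appTop_str_σ g σ ws]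

theorem phi_gaPull [Fact p.Prime] (hY : (p : Γ(Y, ⊤)) = 0) (hX : (p : Γ(X, ⊤)) = 0) (n : ℕ)
    (x : HH Y (EtCoh.Ga Y) n) :
    HHmap (phi hX) n (gaPull π n x) = gaPull π n (HHmap (phi hY) n x) :=
  (gaPull_end π (phi hY) (phi hX) (hat_pow π p _ _ (fn_phi hY) (fn_phi hX)) n x).symm

theorem zmod_smul {V W : Type*} [AddCommGroup V] [AddCommGroup W] [Module (ZMod p) V] [Module K W]
    (hK : (p : K) = 0) (α : V →+ W) (a : ZMod p) (v : V) :
    α (a • v) = ASAlg.zmodHom K p hK a • α v := by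
  obtain ⟨m, rfl⟩ := ZMod.intCast_surjective a
  rw [map_intCast, Int.cast_smul_eq_zsmul, Int.cast_smul_eq_zsmul, map_zsmul]

/-- Finiteness of `H^n(X, G_a)` over `K`. -/
theorem finite_K [CompactSpace Y] [QuasiSeparatedSpace Y] (h : IsPullback π s b (FinFr.specι k K))
    (n : ℕ) (hfd : letI := gaMod b n; Module.Finite k (HH Y (EtCoh.Ga Y) n)) :
    letI := gaMod s n
    Module.Finite K (HH X (EtCoh.Ga X) n) := by
  let _ := gaMod b n
  let _ := modk k s n
  let _ := gaMod s n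
  let _ := isScalarTower_mod (k := k) s n
  have := hfd
  exact Module.Finite.equiv (isBaseChange h n).equiv

/-- **Trace formula**: the trace of the geometric Frobenius on `H^n(X, ℤ/p)` is the trace of the `q`-power map
on `H^n(Y, G_a)`. -/
theorem trace_eq [CompactSpace Y] [QuasiSeparatedSpace Y] [IsSepClosed K] [Fact p.Prime]
    (h : IsPullback π s b (FinFr.specι k K)) (hY : (p : Γ(Y, ⊤)) = 0)
    (hK : (p : K) = 0) (f : ℕ) (hf : 0 < f)
    (hfd : ∀ n, letI := gaMod b n; Module.Finite k (HH Y (EtCoh.Ga Y) n))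
    (g : X ⟶ X) (w : g ≫ π = π) (σ : K →+* K)
    (ws : g ≫ s = s ≫ Spec.map (CommRingCat.ofHom σ)) (hσ : ∀ c, σ (c ^ (p ^ f)) = c) (n : ℕ)
    [Module (ZMod p) (HQ (EtCoh.const Y (ZMod p)) π n)]
    (F : HQ (EtCoh.const Y (ZMod p)) π n →ₗ[ZMod p] HQ (EtCoh.const Y (ZMod p)) π n)
    (hF : ∀ v, F v = res (EtCoh.const Y (ZMod p)) g w n v)
    (T₀ : letI := gaMod b n; HH Y (EtCoh.Ga Y) n →ₗ[k] HH Y (EtCoh.Ga Y) n)
    (hT₀ : letI := gaMod b n; ∀ x, T₀ x = (HHmap (phi hY) n)^[f] x) :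
    Module.Finite (ZMod p) (HQ (EtCoh.const Y (ZMod p)) π n) ∧
      letI := gaMod b n
      algebraMap k K (LinearMap.trace k _ T₀) =
        ASAlg.zmodHom K p hK (LinearMap.trace (ZMod p) _ F) := by
  let _ := gaMod b n
  let _ := modk k s n
  let _ := gaMod s n
  let _ := isScalarTower_mod (k := k) s n
  have hX : (p : Γ(X, ⊤)) = 0 := cast_zero s hK
  have : FiniteDimensional k (HH Y (EtCoh.Ga Y) n) := hfd n
  exact LinFrob.trace_formula p hK f hf (rho π s b h.w n) (isBaseChange h n)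
    (HHmap (phi hY) n) (HHmap (phi hX) n) (phi_smul s hX n)
    (fun x => phi_gaPull hY hX n x) σ hσ (gaPull g n) (gaPull_semi g σ ws n)
    (fun x => gaPull_comp g π π w n x) (HHmap (alpha π hY) n)
    (alpha_injective s π hY hX hK (fun m => finite_K h m (hfd m)) n)
    (exists_alpha_iff π hY hX n) (fun a v => zmod_smul hK _ a v) F
    (fun v => by rw [hF, alpha_res hY g w n v]) T₀ hT₀

end Groth.Agent.Sga4h.H913.Dict
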