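import Groth.Agent.Sga4h.H913.GaFun
import Groth.Agent.Etcore.HQ

/-!
# Pull back on the étale cohomology of `G_a`

`gaPull f n : H^n(Y, G_a) → H^n(X, G_a)`; functoriality, semilinearity, compatibility with the
Frobenius and with relative pull backs `HQ.res` (the same maps as `EtCore.HpullVia`).
-/

set_option autoImplicit false
universe u

open CategoryTheory CategoryTheory.Limits AlgebraicGeometry Opposite Abelian
open scoped Groth.Agent.Etcore.EtInst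
open Groth.Agent.Etcore.EtInst

namespace Groth.Agent.Sga4h.H913.GaPull

open Groth.Agent.Cohder.GaScalar Groth.Agent.Etcore.PullCoh GaFun
open Groth.Agent.Etcore.HpullCalc Groth.Agent.Etcore.HQ

attribute [local instance] pfl

variable {X Y Z : Scheme.{u}}

/-- The pull back `H^n(Y, G_a) → H^n(X, G_a)`. -/
noncomputable def gaPull (f : X ⟶ Y) (n : ℕ) : HH Y (EtCoh.Ga Y) n →+ HH X (EtCoh.Ga X) n :=
  (HHmap (hat f) n).comp (hp f (EtCoh.Ga Y) n)

theorem gaPull_apply (f : X ⟶ Y) (n : ℕ) (x : HH Y (EtCoh.Ga Y) n) :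
    gaPull f n x = HHmap (hat f) n (hp f (EtCoh.Ga Y) n x) := by
  rw [gaPull, AddMonoidHom.comp_apply]

/-- Compatibility of `gaPull` with maps to `G_a`. -/
theorem gaPull_map (f : X ⟶ Y) {t : Y ⟶ Z} {f₀ : X ⟶ Z} (w : f ≫ t = f₀) (G : EtCoh.Ab Z)
    (α : (EtCoh.pull t).obj G ⟶ EtCoh.Ga Y) (β : (EtCoh.pull f₀).obj G ⟶ EtCoh.Ga X)
    (h : (EtCoh.pull f).map α ≫ hat f = th f t f₀ w G ≫ β) (n : ℕ)
    (x : HQ G t n) :
    gaPull f n (HHmap α n x) = HHmap β n (res G f w n x) := by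
  rw [gaPull_apply, res_apply, hp_map, ← HHmap_comp, ← HHmap_comp, h]

theorem gaPull_comp (f : X ⟶ Y) (t : Y ⟶ Z) (f₀ : X ⟶ Z) (w : f ≫ t = f₀) (n : ℕ)
    (x : HH Z (EtCoh.Ga Z) n) : gaPull f n (gaPull t n x) = gaPull f₀ n x := by
  rw [gaPull_apply t, gaPull_map f w (EtCoh.Ga Z) (hat t) (hat f₀) (hat_comp f t f₀ w),
    res_apply, hp_comp_th, gaPull_apply]

theorem gaPull_end (f : X ⟶ Y) (a : EtCoh.Ga Y ⟶ EtCoh.Ga Y) (b : EtCoh.Ga X ⟶ EtCoh.Ga X)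
    (h : (EtCoh.pull f).map a ≫ hat f = hat f ≫ b) (n : ℕ) (x : HH Y (EtCoh.Ga Y) n) :
    gaPull f n (HHmap a n x) = HHmap b n (gaPull f n x) := by
  rw [gaPull_apply, gaPull_apply, hp_map, ← HHmap_comp, ← HHmap_comp, h]

theorem gaPull_smul (f : X ⟶ Y) (a : Γ(Y, ⊤)) (n : ℕ) (x : HH Y (EtCoh.Ga Y) n) :
    gaPull f n (HHmap (smulGa Y a) n x) =
      HHmap (smulGa X (f.appTop.hom a)) n (gaPull f n x) :=
  gaPull_end f _ _ (hat_smulGa f a) n x

end Groth.Agent.Sga4h.H913.GaPull
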