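import Groth.Agent.Etrest.CechQC
import Groth.Agent.Etrest.HpullAcyc
import Groth.Agent.Etbase.GaQC
import Groth.Agent.Sga4h.H913.GaPull

/-!
# Affine morphisms: `H^n(Y, f_* F) = H^n(X, F)` for affinely acyclic `F` (e.g. `G_a`)
-/

set_option autoImplicit false
universe u

open CategoryTheory CategoryTheory.Limits AlgebraicGeometry Opposite Abelian
open scoped Groth.Agent.Etcore.EtInst
open Groth.Agent.Etcore.EtInst

namespace Groth.Agent.Sga4h.H913.EdgeAff

open Groth.Agent.Cohder.GaScalar Groth.Agent.Etcore.PullCoh GaFun GaPull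
open Groth.Agent.Etcore.HpullCalc Groth.Agent.Etcore.HQ Groth.Agent.Etbase Groth.Agent.Etrest

attribute [local instance] pfl

variable {X Y Z : Scheme.{u}}

theorem isAffine_bc (f : X ⟶ Y) [IsAffineHom f] (W : Y.Etale) (hW : IsAffine W.left) :
    IsAffine ((EtCoh.bc f).obj W).left := by
  have h1 : IsAffineHom (EtShriek.prV f W) :=
    MorphismProperty.pullback_fst (P := @IsAffineHom) (W.hom : W.left ⟶ Y) f ‹_›
  exact isAffine_of_isAffineHom (EtShriek.prV f W)

theorem epi_push_aff (f : X ⟶ Y) [IsAffineHom f] {I Q : EtCoh.Ab X} (β : I ⟶ Q)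
    (h : ∀ U : X.Etale, IsAffine U.left → Function.Surjective (β.hom.app (op U))) :
    Epi ((EtCoh.push f).map β) := by
  rw [Dix.EtaleSieve.epi_iff]
  intro V s x
  obtain ⟨W, g, hW, -, w, hw⟩ := Site0.exists_affine V x
  obtain ⟨t, ht⟩ := h _ (isAffine_bc f W hW) (((EtCoh.push f).obj Q).obj.map g.op s)
  exact ⟨W, g, ⟨w, hw⟩, t, ht⟩

/-- Affinely acyclic sheaves are acyclic for direct images under affine morphisms. -/
theorem isZero_Rpush_aff (f : X ⟶ Y) [IsAffineHom f] {F : EtCoh.Ab X} (hF : EtCartan.EtAcyc F.obj)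
    (q : ℕ) (hq : 0 < q) : IsZero ((EtCoh.Rpush f q).obj F) :=
  RAcyc.isZero_rightDerived_of_class (EtCoh.push f) (fun F => EtCartan.EtAcyc F.obj)
    (fun S hS _ hF => ⟨(EtCartan.etAcyc_step S.f S.g S.zero hS hF).2,
      epi_push_aff f S.g (EtCartan.etAcyc_step S.f S.g S.zero hS hF).1⟩) hF q hq

/-- `H^n(Y, f_* F) → H^n(X, F)`. -/
noncomputable def edge (f : X ⟶ Y) (F : EtCoh.Ab X) (n : ℕ) :
    HH Y ((EtCoh.push f).obj F) n →+ HH X F n :=
  (HHmap ((EtCoh.pullPushAdj f).counit.app F) n).comp (hp f ((EtCoh.push f).obj F) n)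

theorem edge_apply (f : X ⟶ Y) (F : EtCoh.Ab X) (n : ℕ) (x : HH Y ((EtCoh.push f).obj F) n) :
    edge f F n x = HHmap ((EtCoh.pullPushAdj f).counit.app F) n (hp f ((EtCoh.push f).obj F) n x) := by
  rw [edge, AddMonoidHom.comp_apply]

theorem edge_map (f : X ⟶ Y) {F F' : EtCoh.Ab X} (a : F ⟶ F') (n : ℕ)
    (x : HH Y ((EtCoh.push f).obj F) n) :
    edge f F' n (HHmap ((EtCoh.push f).map a) n x) = HHmap a n (edge f F n x) := by
  rw [edge_apply, edge_apply, hp_map, ← HHmap_comp, ← HHmap_comp]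
  congr 1
  congr 1
  exact (EtCoh.pullPushAdj f).counit.naturality a

theorem edge_bijective (f : X ⟶ Y) [IsAffineHom f] {F : EtCoh.Ab X}
    (hF : EtCartan.EtAcyc F.obj) (n : ℕ) : Function.Bijective (edge f F n) := by
  have h1 := HpullAcyc.cmp_counit_bijective.{u + 1, u + 1} (EtCoh.pull f) (EtCoh.pullPushAdj f)
    (EtCoh.const Y ℤ) n F (fun q hq => isZero_Rpush_aff f hF q hq)
  let P : Ext ((EtCoh.pull f).obj (EtCoh.const Y ℤ)) F n → Ext (EtCoh.const X ℤ) F n :=
    fun e => (Ext.mk₀ (EtCore.pullConst f ℤ).inv).comp e (zero_add n)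
  have h3 : Function.Bijective P := by
    constructor
    · intro a b h
      have := congrArg (fun e => (Ext.mk₀ (EtCore.pullConst f ℤ).hom).comp e (zero_add n)) h
      simpa only [P, Ext.mk₀_comp_mk₀_assoc, Iso.hom_inv_id, Ext.mk₀_id_comp] using this
    · intro a
      refine ⟨(Ext.mk₀ (EtCore.pullConst f ℤ).hom).comp a (zero_add n), ?_⟩
      simp only [P, Ext.mk₀_comp_mk₀_assoc, Iso.inv_hom_id]
      exact Ext.mk₀_id_comp _
  have h4 : ⇑(edge f F n) = P ∘ ⇑(Etbase.ExtCompare.cmp.{u + 1, u + 1} (F := F) (EtCoh.pull f)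
      (EtCoh.const Y ℤ) ((EtCoh.pullPushAdj f).counit.app F) n) := by
    funext x
    rw [edge_apply, hp_apply, Function.comp_apply, Etbase.ExtCompare.cmp_apply, HHmap_apply]
    exact Ext.comp_assoc_of_third_deg_zero _ _ _ _
  rw [h4]
  exact h3.comp h1

/-- `gaPull` through `H^n(Y, f_* G_a)`. -/
theorem gaPull_eq_edge (f : X ⟶ Y) (n : ℕ) (x : HH Y (EtCoh.Ga Y) n) :
    gaPull f n x = edge f (EtCoh.Ga X) n (HHmap (iot f) n x) := by
  rw [gaPull_apply, edge_apply, hp_map, ← HHmap_comp]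
  congr 1

theorem edge_ga_bijective (f : X ⟶ Y) [IsAffineHom f] (n : ℕ) :
    Function.Bijective (edge f (EtCoh.Ga X) n) :=
  edge_bijective f (GaQC.ga_etAcyc X) n

end Groth.Agent.Sga4h.H913.EdgeAff
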