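import Groth.Agent.S0682
import Groth.Agent.Etbase.EtColim
import Groth.Agent.Etcore.EtInst
import Groth.Agent.Etrest.Site0
import Mathlib.CategoryTheory.Limits.Constructions.Filtered
import Mathlib.CategoryTheory.Limits.Preserves.Shapes.Products
import Mathlib.CategoryTheory.Abelian.GrothendieckAxioms.Basic

/-!
# Cohomology of a sheaf which is, over affines, a direct sum of copies of another sheaf

`m i : F ⟶ G`, `i ∈ ι : Type u`, such that sections of `G` over affine `U` are uniquely finite sums of sections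
`m i (t i)`: the same holds for `H^n(Y, -)`, `Y` quasi-compact quasi-separated.
-/

set_option autoImplicit false
universe u

open CategoryTheory CategoryTheory.Limits AlgebraicGeometry Opposite Abelian
open scoped Groth.Agent.Etcore.EtInst
open Groth.Agent.Etcore.EtInst

namespace Groth.Agent.Sga4h.H913.HSum

open Groth.Agent.Etbase Groth.Agent.Etrest

variable {Y : Scheme.{u}}

/-- Cohomology commutes with filtered colimits, surjectivity. -/
theorem exists_of_isColimit [CompactSpace Y] [QuasiSeparatedSpace Y] {J : Type u}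
    [SmallCategory J] [IsFiltered J] {D : J ⥤ EtCoh.Ab Y} {c : Cocone D} (hc : IsColimit c) (n : ℕ)
    (z : HH Y c.pt n) : ∃ (j : J) (x : HH Y (D.obj j) n), HHmap (c.ι.app j) n x = z := by
  haveI := EtColim.exact_small Y J
  haveI := EtColim.forget_small J
  have h1 := EtColim.preservesColimits_HF Y J n
  have h2 := isColimitOfPreserves (EtCoh.HF Y n) hc
  obtain ⟨j, x, hx⟩ := Concrete.isColimit_exists_rep _ h2 z
  exact ⟨j, x, hx⟩

theorem HHmap_add {F G : EtCoh.Ab Y} (a b : F ⟶ G) (n : ℕ) (x : HH Y F n) :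
    HHmap (a + b) n x = HHmap a n x + HHmap b n x := by
  rw [HHmap_apply, HHmap_apply, HHmap_apply, Ext.mk₀_add, Ext.comp_add]

theorem HHmap_zero {F G : EtCoh.Ab Y} (n : ℕ) (x : HH Y F n) :
    HHmap (0 : F ⟶ G) n x = 0 := by
  rw [HHmap_apply, Ext.mk₀_zero, Ext.comp_zero]

/-- `HHmap` as an additive map in the morphism. -/
noncomputable def HHev {F G : EtCoh.Ab Y} (n : ℕ) (x : HH Y F n) : (F ⟶ G) →+ HH Y G n where
  toFun a := HHmap a n x
  map_zero' := HHmap_zero n x
  map_add' a b := HHmap_add a b n x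

theorem HHmap_sum {F G : EtCoh.Ab Y} {κ : Type*} (I : Finset κ) (a : κ → (F ⟶ G)) (n : ℕ)
    (x : HH Y F n) : HHmap (∑ i ∈ I, a i) n x = ∑ i ∈ I, HHmap (a i) n x :=
  map_sum (HHev n x) a I

theorem hasCoproducts_ab (ι : Type u) : HasColimitsOfShape (Discrete ι) AddCommGrpCat.{u+1} :=
  inferInstance

theorem hasFinset_ab (ι : Type u) :
    HasColimitsOfShape (Finset (Discrete ι)) AddCommGrpCat.{u+1} := inferInstance

theorem hasColimitsOfShape_discrete (ι : Type u) (Y : Scheme.{u}) :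
    HasColimitsOfShape (Discrete ι) (EtCoh.Ab Y) :=
  @Sheaf.instHasColimitsOfShape _ _ Y.smallEtaleTopology AddCommGrpCat.{u + 1} _ (Discrete ι) _ _
    (hasCoproducts_ab.{u} ι)

theorem hasColimitsOfShape_finset (ι : Type u) (Y : Scheme.{u}) :
    HasColimitsOfShape (Finset (Discrete ι)) (EtCoh.Ab Y) :=
  @Sheaf.instHasColimitsOfShape _ _ Y.smallEtaleTopology AddCommGrpCat.{u + 1} _
    (Finset (Discrete ι)) _ _ (hasFinset_ab.{u} ι)

attribute [local instance] hasColimitsOfShape_discrete hasColimitsOfShape_finset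

theorem partId_univ {C : Type*} [Category C] [Preadditive C] {κ : Type*} [Fintype κ] {K : κ → C}
    {c : Cofan K} (hc : IsColimit c) : S0682.partId hc Finset.univ = 𝟙 _ := by
  refine Cofan.IsColimit.hom_ext hc _ _ fun i => ?_
  rw [S0682.inj_partId hc Finset.univ i (Finset.mem_univ _)]
  exact (Category.comp_id _).symm

/-- Classes in the cohomology of a direct sum are finite sums. -/
theorem exists_sum [CompactSpace Y] [QuasiSeparatedSpace Y] {ι : Type u} (K : ι → EtCoh.Ab Y)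
    (n : ℕ) (z : HH Y (∐ K) n) : ∃ (I : Finset (Discrete ι)) (t : ∀ i : I, HH Y (K i.1.as) n),
      z = ∑ i : I, HHmap (Limits.Sigma.ι K i.1.as) n (t i) := by
  classical
  let hc := CoproductsFromFiniteFiltered.isColimitFiniteSubproductsCocone K
  obtain ⟨I, t, ht⟩ := exists_of_isColimit hc n z
  let K' : I → EtCoh.Ab Y := fun x => (Discrete.functor K).obj x.1
  let t' : HH Y (∐ K') n := t
  let hI : IsColimit (Cofan.mk (∐ K') (Limits.Sigma.ι K')) := coproductIsCoproduct K'
  let pr : ∀ i : I, ∐ K' ⟶ K' i := fun i => S0682.proj hI i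
  let pI : ∐ K' ⟶ ∐ K' := S0682.partId hI Finset.univ
  have h1 : pI = 𝟙 _ := partId_univ hI
  let γ : ∐ K' ⟶ ∐ K := (CoproductsFromFiniteFiltered.finiteSubcoproductsCocone K).ι.app I
  have h3 : ∀ i, Limits.Sigma.ι K' i ≫ γ = Limits.Sigma.ι K i.1.as := fun i => Limits.Sigma.ι_desc _ _
  have h2 : pI ≫ γ = ∑ i : I, pr i ≫ Limits.Sigma.ι K i.1.as := by
    refine (Preadditive.sum_comp _ _ _).trans ?_
    refine Finset.sum_congr rfl fun i _ => ?_
    refine (Category.assoc _ _ _).trans ?_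
    exact congrArg (fun a => pr i ≫ a) (h3 i)
  refine ⟨I, fun i => HHmap (pr i) n t', ?_⟩
  calc z = HHmap γ n t' := ht.symm
    _ = HHmap (pI ≫ γ) n t' := by rw [h1, Category.id_comp]
    _ = HHmap (∑ i : I, pr i ≫ Limits.Sigma.ι K i.1.as) n t' := by rw [h2]
    _ = ∑ i : I, HHmap (pr i ≫ Limits.Sigma.ι K i.1.as) n t' := HHmap_sum _ _ _ _
    _ = ∑ i : I, HHmap (Limits.Sigma.ι K i.1.as) n (HHmap (pr i) n t') :=
      Finset.sum_congr rfl fun i _ => HHmap_comp _ _ _ _

/-- Evaluation of a finite sum of morphisms. -/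
theorem app_sum {F G : EtCoh.Ab Y} {κ : Type*} (I : Finset κ) (a : κ → (F ⟶ G)) (U : Y.Etale)
    (s : EtCoh.sect F U) :
    (∑ i ∈ I, a i).hom.app (op U) s = ∑ i ∈ I, ((a i).hom.app (op U) s : EtCoh.sect G U) :=
  map_sum (S0682.evalHom U s) a I

theorem isIso_desc {ι : Type u} {F G : EtCoh.Ab Y} (m : ι → (F ⟶ G))
    (h1 : ∀ U : Y.Etale, IsAffine U.left → ∀ z : EtCoh.sect G U,
      ∃ (I : Finset ι) (t : ι → EtCoh.sect F U), z = ∑ i ∈ I, (m i).hom.app (op U) (t i))
    (h2 : ∀ U : Y.Etale, IsAffine U.left → ∀ (I : Finset ι) (t : ι → EtCoh.sect F U),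
      ∑ i ∈ I, ((m i).hom.app (op U) (t i) : EtCoh.sect G U) = 0 → ∀ i ∈ I, t i = 0) :
    IsIso (Limits.Sigma.desc m : (∐ fun _ : ι => F) ⟶ G) := by
  classical
  let K : ι → EtCoh.Ab Y := fun _ => F
  let c : ∐ K ⟶ G := Limits.Sigma.desc m
  have hι : ∀ i, Limits.Sigma.ι K i ≫ c = m i := fun i => Limits.Sigma.ι_desc _ _
  have hιs : ∀ (i : ι) (V : Y.Etale) (s : EtCoh.sect F V),
      c.hom.app (op V) ((Limits.Sigma.ι K i).hom.app (op V) s) = (m i).hom.app (op V) s := by
    intro i V s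
    exact congrArg (fun a : F ⟶ G => a.hom.app (op V) s) (hι i)
  let hK : IsColimit (Cofan.mk (∐ K) (Limits.Sigma.ι K)) := coproductIsCoproduct K
  let pr : ∀ i : ι, ∐ K ⟶ F := fun i => S0682.proj hK i
  have hrep : ∀ (V : Y.Etale) (_ : IsAffine V.left) (z : EtCoh.sect (∐ K) V), ∃ I : Finset ι,
      z = ∑ i ∈ I, (Limits.Sigma.ι K i).hom.app (op V) ((pr i).hom.app (op V) z) := by
    intro V hV z
    obtain ⟨I, hI⟩ := S0682.exists_partId_eq hK V z Set.univ isCompact_univ (Set.subset_univ _)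
    refine ⟨I, hI.symm.trans ?_⟩
    exact app_sum I (fun i => pr i ≫ Limits.Sigma.ι K i) V z
  have hzero : ∀ (V : Y.Etale) (_ : IsAffine V.left) (z : EtCoh.sect (∐ K) V),
      c.hom.app (op V) z = 0 → z = 0 := by
    intro V hV z hz
    obtain ⟨I, hI⟩ := hrep V hV z
    have h3 : ∑ i ∈ I, ((m i).hom.app (op V) ((pr i).hom.app (op V) z) : EtCoh.sect G V) = 0 := by
      rw [← hz]
      refine Eq.trans ?_ (congrArg (c.hom.app (op V)) hI).symm
      refine Eq.trans ?_ (map_sum (c.hom.app (op V)).hom _ _).symm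
      exact Finset.sum_congr rfl fun i _ => (hιs i V _).symm
    have h4 := h2 V hV I _ h3
    rw [hI]
    refine Finset.sum_eq_zero fun i hi => ?_
    rw [h4 i hi]
    exact map_zero ((Limits.Sigma.ι K i).hom.app (op V)).hom
  have hinj : ∀ (V : Y.Etale) (z : EtCoh.sect (∐ K) V), c.hom.app (op V) z = 0 → z = 0 := by
    intro V z hz
    apply Site0.eq_zero_of_local
    intro v
    obtain ⟨W, g, hW, -, w, hw⟩ := Site0.exists_affine V v
    refine ⟨W, g, ⟨w, hw⟩, hzero W hW _ ?_⟩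
    have h1 := NatTrans.naturality_apply c.hom g.op z
    refine h1.trans ?_
    rw [hz]
    exact map_zero _
  have hW : Y.smallEtaleTopology.W c.hom := by
    rw [GrothendieckTopology.W_iff_isLocallyBijective]
    constructor
    · apply Presheaf.isLocallyInjective_of_injective
      intro V x y hxy
      rw [← sub_eq_zero]
      apply hinj V.unop
      have : c.hom.app V x = c.hom.app V y := hxy
      refine (map_sub (c.hom.app V).hom x y).trans ?_
      exact sub_eq_zero.2 this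
    · refine ⟨fun {V} s => ?_⟩
      rw [Site0.mem_iff]
      intro v
      obtain ⟨W, g, hW, -, w, hw⟩ := Site0.exists_affine V v
      obtain ⟨I, t, ht⟩ := h1 W hW (G.obj.map g.op s)
      refine ⟨W, g, ⟨∑ i ∈ I, ((Limits.Sigma.ι K i).hom.app (op W) (t i) : EtCoh.sect (∐ K) W), ?_⟩,
        w, hw⟩
      refine Eq.trans ?_ ht.symm
      refine (map_sum (c.hom.app (op W)).hom _ _).trans ?_
      exact Finset.sum_congr rfl fun i _ => hιs i W _
  exact (GrothendieckTopology.W_sheafToPresheaf_map_iff_isIso _ c).1 hW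

section Cohomology

variable {ι : Type u} {F G : EtCoh.Ab Y} (m : ι → (F ⟶ G))
    (h1 : ∀ U : Y.Etale, IsAffine U.left → ∀ z : EtCoh.sect G U,
      ∃ (I : Finset ι) (t : ι → EtCoh.sect F U), z = ∑ i ∈ I, (m i).hom.app (op U) (t i))
    (h2 : ∀ U : Y.Etale, IsAffine U.left → ∀ (I : Finset ι) (t : ι → EtCoh.sect F U),
      ∑ i ∈ I, ((m i).hom.app (op U) (t i) : EtCoh.sect G U) = 0 → ∀ i ∈ I, t i = 0)

include h1 h2

theorem h_exists [CompactSpace Y] [QuasiSeparatedSpace Y] (n : ℕ) (z : HH Y G n) :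
    ∃ (I : Finset (Discrete ι)) (t : I → HH Y F n), z = ∑ i : I, HHmap (m i.1.as) n (t i) := by
  have hiso := isIso_desc m h1 h2
  obtain ⟨w, hw⟩ := (HHmap_bijective (Limits.Sigma.desc m : (∐ fun _ : ι => F) ⟶ G) n).2 z
  obtain ⟨I, t, ht⟩ := exists_sum (fun _ : ι => F) n w
  refine ⟨I, t, ?_⟩
  rw [← hw, ht, map_sum]
  refine Finset.sum_congr rfl fun i _ => ?_
  rw [← HHmap_comp, Limits.Sigma.ι_desc]

theorem h_unique (n : ℕ) (I : Finset ι) (t : ι → HH Y F n)
    (h : ∑ i ∈ I, HHmap (m i) n (t i) = 0) : ∀ i ∈ I, t i = 0 := by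
  classical
  intro j hj
  have hiso := isIso_desc m h1 h2
  let K : ι → EtCoh.Ab Y := fun _ => F
  let hK : IsColimit (Cofan.mk (∐ K) (Limits.Sigma.ι K)) := coproductIsCoproduct K
  have h3 : ∑ i ∈ I, HHmap (Limits.Sigma.ι K i) n (t i) = 0 := by
    apply (HHmap_bijective (Limits.Sigma.desc m : (∐ fun _ : ι => F) ⟶ G) n).1
    rw [map_zero, map_sum, ← h]
    refine Finset.sum_congr rfl fun i _ => ?_
    rw [← HHmap_comp, Limits.Sigma.ι_desc]
  have h4 := congrArg (HHmap (S0682.proj hK j : ∐ K ⟶ F) n) h3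
  rw [map_zero, map_sum, Finset.sum_eq_single_of_mem j hj, ← HHmap_comp] at h4
  · have h5 : Limits.Sigma.ι K j ≫ (S0682.proj hK j : ∐ K ⟶ F) = 𝟙 F := S0682.inj_proj_self hK j
    rw [h5, HHmap_id] at h4
    exact h4
  · intro i _ hij
    rw [← HHmap_comp]
    have h5 : Limits.Sigma.ι K i ≫ (S0682.proj hK j : ∐ K ⟶ F) = 0 := S0682.inj_proj_ne hK hij
    rw [h5, HHmap_zero]

end Cohomology

end Groth.Agent.Sga4h.H913.HSum
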