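import Groth.Agent.Sga4h.H913.GaSect
import Groth.Agent.Sga4h.H913.HSum
import Groth.Agent.Sga4h.H913.EdgeAff
import Groth.Agent.Cohder.ASFinite

/-!
# Base change for the étale cohomology of `G_a`: `H^n(Y_K, G_a) = H^n(Y, G_a) ⊗_k K`
-/

set_option autoImplicit false
universe u

open CategoryTheory CategoryTheory.Limits AlgebraicGeometry Opposite Abelian
open scoped Groth.Agent.Etcore.EtInst
open Groth.Agent.Etcore.EtInst

namespace Groth.Agent.Sga4h.H913.GaBC

open Groth.Agent.Cohder.GaScalar GaFun GaPull EdgeAff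

variable {X Y : Scheme.{u}}

theorem smulGa_add' (a b : Γ(X, ⊤)) : smulGa X (a + b) = smulGa X a + smulGa X b := by
  apply hom_ext
  intro U s
  rw [fn_smulGa, map_add, add_mul]
  rfl

theorem smulGa_zero' : smulGa X 0 = 0 := by
  apply hom_ext
  intro U s
  rw [fn_smulGa, map_zero, zero_mul]
  rfl

/-- The vector space structure on the cohomology of `G_a`. -/
@[reducible] noncomputable def gaMod {k : Type u} [CommRing k] (f : X ⟶ Spec (CommRingCat.of k))
    (n : ℕ) : Module k (HH X (EtCoh.Ga X) n) where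
  smul c x := HHmap (smulGa X (str f c)) n x
  one_smul x := by
    change HHmap (smulGa X (str f 1)) n x = x
    rw [map_one, smulGa_one, HHmap_id]
  mul_smul a b x := by
    change HHmap (smulGa X (str f (a * b))) n x =
      HHmap (smulGa X (str f a)) n (HHmap (smulGa X (str f b)) n x)
    rw [map_mul, smulGa_mul, HHmap_comp]
  smul_zero a := map_zero _
  smul_add a x y := map_add _ x y
  add_smul a b x := by
    change HHmap (smulGa X (str f (a + b))) n x =
      HHmap (smulGa X (str f a)) n x + HHmap (smulGa X (str f b)) n x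
    rw [map_add, smulGa_add', HSum.HHmap_add]
  zero_smul x := by
    change HHmap (smulGa X (str f 0)) n x = 0
    rw [map_zero, smulGa_zero', HSum.HHmap_zero]

theorem gaMod_smul {k : Type u} [CommRing k] (f : X ⟶ Spec (CommRingCat.of k)) (n : ℕ) (c : k)
    (x : HH X (EtCoh.Ga X) n) :
    letI := gaMod f n
    c • x = HHmap (smulGa X (str f c)) n x := rfl

variable {k : Type u} [Field k] {K : Type u} [Field K] [Algebra k K]
  {π : X ⟶ Y} {s : X ⟶ Spec (CommRingCat.of K)} {b : Y ⟶ Spec (CommRingCat.of k)}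

theorem appTop_str (w : π ≫ b = s ≫ FinFr.specι k K) (c : k) :
    π.appTop.hom (str b c) = str s (algebraMap k K c) := by
  have h1 : (b.appTop ≫ π.appTop) = (FinFr.specι k K).appTop ≫ s.appTop := by
    rw [← Scheme.Hom.comp_appTop, ← Scheme.Hom.comp_appTop, w]
  have h2 := Scheme.ΓSpecIso_inv_naturality (CommRingCat.ofHom (algebraMap k K))
  have h3 := congr($(h1).hom ((Scheme.ΓSpecIso (CommRingCat.of k)).inv.hom c))
  have h4 := congr($(h2).hom c)
  refine h3.trans ?_
  change s.appTop.hom ((FinFr.specι k K).appTop.hom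
    ((Scheme.ΓSpecIso (CommRingCat.of k)).inv.hom c)) = s.appTop.hom
      ((Scheme.ΓSpecIso (CommRingCat.of K)).inv.hom (algebraMap k K c))
  congr 1
  exact h4.symm

variable (π s)

/-- `G_a,Y ⟶ π_* G_a,X`, `t ↦ c t`. -/
noncomputable def mm (c : K) : EtCoh.Ga Y ⟶ (EtCoh.push π).obj (EtCoh.Ga X) :=
  iot π ≫ (EtCoh.push π).map (smulGa X (str s c))

theorem fn_mm (c : K) (U : Y.Etale) (t : EtCoh.sect (EtCoh.Ga Y) U) :
    fn (U := (EtCoh.bc π).obj U) ((mm π s c).hom.app (op U) t) =
      toU _ (str s c) * (prU π U).appTop.hom (fn t) := rfl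

theorem edge_mm (c : K) (n : ℕ) (x : HH Y (EtCoh.Ga Y) n) :
    edge π _ n (HHmap (mm π s c) n x) = HHmap (smulGa X (str s c)) n (gaPull π n x) := by
  rw [mm, HHmap_comp, edge_map, gaPull_eq_edge]

omit π s in
theorem fn_sum {U : Y.Etale} {κ : Type*} (I : Finset κ) (t : κ → EtCoh.sect (EtCoh.Ga Y) U) :
    fn (∑ i ∈ I, t i) = ∑ i ∈ I, fn (t i) :=
  map_sum ({ toFun := fn, map_zero' := fn_zero, map_add' := fn_add } :
    EtCoh.sect (EtCoh.Ga Y) U →+ Γ(U.left, ⊤)) t I

theorem fn_sum_mm {ι : Type*} (I : Finset ι) (e : ι → K) (U : Y.Etale)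
    (t : ι → EtCoh.sect (EtCoh.Ga Y) U) :
    fn (U := (EtCoh.bc π).obj U) (∑ i ∈ I, (mm π s (e i)).hom.app (op U) (t i)) =
      ∑ i ∈ I, toU _ (str s (e i)) * (prU π U).appTop.hom (fn (t i)) :=
  (fn_sum (U := (EtCoh.bc π).obj U) I _).trans rfl

variable {π s} (h : IsPullback π s b (FinFr.specι k K))

include h

theorem sect_exists {ι : Type*} (e : Module.Basis ι k K) (U : Y.Etale) (hU : IsAffine U.left)
    (z : EtCoh.sect ((EtCoh.push π).obj (EtCoh.Ga X)) U) :
    ∃ (I : Finset ι) (t : ι → EtCoh.sect (EtCoh.Ga Y) U),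
      z = ∑ i ∈ I, (mm π s (e i)).hom.app (op U) (t i) := by
  let _ := (prU π U).appTop.hom.toAlgebra
  obtain ⟨B, hB⟩ := GaSect.exists_basis h e U hU
  let z' : Γ(((EtCoh.bc π).obj U).left, ⊤) := fn (U := (EtCoh.bc π).obj U) z
  refine ⟨(B.repr z').support, fun i => ofFn (U := U) (B.repr z' i), ?_⟩
  apply fn_injective (U := (EtCoh.bc π).obj U)
  refine Eq.trans ?_ (fn_sum_mm π s (B.repr z').support e U
    (fun i => ofFn (U := U) (B.repr z' i))).symm
  refine Eq.trans (B.linearCombination_repr z').symm ?_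
  rw [Finsupp.linearCombination_apply, Finsupp.sum]
  refine Finset.sum_congr rfl fun i _ => ?_
  rw [hB, Algebra.smul_def, mul_comm]
  rfl

theorem sect_unique {ι : Type*} (e : Module.Basis ι k K) (U : Y.Etale) (hU : IsAffine U.left)
    (I : Finset ι) (t : ι → EtCoh.sect (EtCoh.Ga Y) U)
    (h0 : ∑ i ∈ I, ((mm π s (e i)).hom.app (op U) (t i) :
      EtCoh.sect ((EtCoh.push π).obj (EtCoh.Ga X)) U) = 0) :
    ∀ i ∈ I, t i = 0 := by
  let _ := (prU π U).appTop.hom.toAlgebra
  obtain ⟨B, hB⟩ := GaSect.exists_basis h e U hU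
  have h1 := congrArg (fn (U := (EtCoh.bc π).obj U)) h0
  have h2 : ∑ i ∈ I, fn (t i) • B i = 0 := by
    refine Eq.trans ?_ h1
    refine Eq.trans ?_ (fn_sum_mm π s I e U t).symm
    refine Finset.sum_congr rfl fun i _ => ?_
    rw [hB, Algebra.smul_def, mul_comm]
    rfl
  intro i hi
  apply fn_injective
  exact linearIndependent_iff'.1 B.linearIndependent I (fun i => fn (t i)) h2 i hi

theorem isAffineHom_π : IsAffineHom π :=
  MorphismProperty.of_isPullback (P := @IsAffineHom) h.flip inferInstance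

theorem h_exists [CompactSpace Y] [QuasiSeparatedSpace Y] {ι : Type u} (e : Module.Basis ι k K)
    (n : ℕ) (z : HH X (EtCoh.Ga X) n) :
    ∃ (I : Finset (Discrete ι)) (t : I → HH Y (EtCoh.Ga Y) n),
      z = ∑ i : I, HHmap (smulGa X (str s (e i.1.as))) n (gaPull π n (t i)) := by
  have := isAffineHom_π h
  obtain ⟨w, rfl⟩ := (edge_ga_bijective π n).2 z
  obtain ⟨I, t, ht⟩ := HSum.h_exists (fun i => mm π s (e i)) (sect_exists h e)
    (sect_unique h e) n w
  refine ⟨I, t, ?_⟩
  rw [ht, map_sum]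
  exact Finset.sum_congr rfl fun i _ => edge_mm π s _ n _

theorem h_unique {ι : Type u} (e : Module.Basis ι k K) (n : ℕ) (I : Finset ι)
    (t : ι → HH Y (EtCoh.Ga Y) n)
    (h0 : ∑ i ∈ I, HHmap (smulGa X (str s (e i))) n (gaPull π n (t i)) = 0) :
    ∀ i ∈ I, t i = 0 := by
  have := isAffineHom_π h
  refine HSum.h_unique (fun i => mm π s (e i)) (sect_exists h e) (sect_unique h e) n I t ?_
  apply (edge_ga_bijective π n).1
  rw [map_zero, map_sum, ← h0]
  exact Finset.sum_congr rfl fun i _ => edge_mm π s _ n _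

omit h

/-- The `k`-vector space structure on the cohomology of `G_a` of a `K`-scheme. -/
@[reducible] noncomputable def modk (k : Type u) [Field k] [Algebra k K]
    (s : X ⟶ Spec (CommRingCat.of K)) (n : ℕ) : Module k (HH X (EtCoh.Ga X) n) :=
  letI := gaMod s n
  Module.compHom _ (algebraMap k K)

/-- The pull back `H^n(Y, G_a) → H^n(X, G_a)` as a linear map. -/
noncomputable def rho (π : X ⟶ Y) (s : X ⟶ Spec (CommRingCat.of K))
    (b : Y ⟶ Spec (CommRingCat.of k)) (w : π ≫ b = s ≫ FinFr.specι k K) (n : ℕ) :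
    letI := gaMod b n
    letI := modk k s n
    HH Y (EtCoh.Ga Y) n →ₗ[k] HH X (EtCoh.Ga X) n :=
  letI := gaMod b n
  letI := modk k s n
  { toFun := gaPull π n
    map_add' := fun x y => map_add _ x y
    map_smul' := fun c x => by
      refine (gaPull_smul π (str b c) n x).trans ?_
      rw [appTop_str w]
      rfl }

theorem rho_apply (w : π ≫ b = s ≫ FinFr.specι k K) (n : ℕ) (x : HH Y (EtCoh.Ga Y) n) :
    letI := gaMod b n
    letI := modk k s n
    rho π s b w n x = gaPull π n x := rfl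

theorem isScalarTower_mod (s : X ⟶ Spec (CommRingCat.of K)) (n : ℕ) :
    letI := modk k s n
    letI := gaMod s n
    IsScalarTower k K (HH X (EtCoh.Ga X) n) := by
  let _ := modk k s n
  let _ := gaMod s n
  exact IsScalarTower.of_algebraMap_smul fun r x => rfl

/-- **Base change for `H^n(-, G_a)`.** -/
theorem isBaseChange [CompactSpace Y] [QuasiSeparatedSpace Y]
    (h : IsPullback π s b (FinFr.specι k K)) (n : ℕ) :
    letI := gaMod b n
    letI := modk k s n
    letI := gaMod s n
    letI := isScalarTower_mod (k := k) s n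
    IsBaseChange K (rho π s b h.w n) := by
  classical
  let _ := gaMod b n
  let _ := modk k s n
  let _ := gaMod s n
  let _ := isScalarTower_mod (k := k) s n
  let e := Module.Basis.ofVectorSpace k K
  unfold IsBaseChange IsTensorProduct
  constructor
  · rw [injective_iff_map_eq_zero]
    intro z hz
    let E := TensorProduct.equivFinsuppOfBasisLeft (N := HH Y (EtCoh.Ga Y) n) e
    have h1 : z = E.symm (E z) := (E.symm_apply_apply z).symm
    rw [h1] at hz
    rw [TensorProduct.equivFinsuppOfBasisLeft_symm_apply, Finsupp.sum, map_sum] at hz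
    have h2 := h_unique h e n (E z).support (fun i => E z i) hz
    rw [h1, TensorProduct.equivFinsuppOfBasisLeft_symm_apply, Finsupp.sum]
    refine Finset.sum_eq_zero fun i hi => ?_
    rw [h2 i hi, TensorProduct.tmul_zero]
  · intro z
    obtain ⟨I, t, rfl⟩ := h_exists h e n z
    refine ⟨∑ i : I, e i.1.as ⊗ₜ[k] t i, ?_⟩
    rw [map_sum]
    rfl

end Groth.Agent.Sga4h.H913.GaBC
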