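import Groth.Prelude.Def_EtGm
import Groth.Agent.Cohder.GaScalar
import Groth.Agent.Etcore.PullCoh

/-!
# Functoriality of `G_a` along morphisms of schemes

`iot f : G_a,Y ⟶ f_* G_a,X` (pull back of functions), its adjoint `hat f : f⁻¹ G_a,Y ⟶ G_a,X`, compatibility
with composition (`hat_comp`), with multiplication by functions and with Frobenius maps.
-/

set_option autoImplicit false
universe u

open CategoryTheory CategoryTheory.Limits AlgebraicGeometry Opposite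

namespace Groth.Agent.Sga4h.H913.GaFun

open Groth.Agent.Cohder.GaScalar Groth.Agent.Etcore.PullCoh

/-- The first projection `U ×_Y X ⟶ U` of the base change of an étale `Y`-scheme. -/
noncomputable abbrev prU {X Y : Scheme.{u}} (f : X ⟶ Y) (U : Y.Etale) :
    ((EtCoh.bc f).obj U).left ⟶ U.left := pullback.fst U.hom f

theorem prU_nat {X Y : Scheme.{u}} (f : X ⟶ Y) {U V : Y.Etale} (r : V ⟶ U) :
    ((EtCoh.bc f).map r).left ≫ prU f U = prU f V ≫ r.left :=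
  (EtCoh.isPullback_bc_map f r).w

/-- Pull back of functions from `U` to `U ×_Y X`. -/
noncomputable def pb {X Y : Scheme.{u}} (f : X ⟶ Y) (U : Y.Etale) :
    EtCoh.sect (EtCoh.Ga Y) U →+ EtCoh.sect (EtCoh.Ga X) ((EtCoh.bc f).obj U) where
  toFun s := ofFn (U := (EtCoh.bc f).obj U) ((prU f U).appTop.hom (fn s))
  map_zero' := by
    apply fn_injective
    rw [fn_ofFn, fn_zero, fn_zero, map_zero]
  map_add' s t := by
    apply fn_injective
    rw [fn_add, fn_ofFn, fn_add, map_add, fn_ofFn, fn_ofFn]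

theorem fn_pb {X Y : Scheme.{u}} (f : X ⟶ Y) (U : Y.Etale) (s : EtCoh.sect (EtCoh.Ga Y) U) :
    fn (pb f U s) = (prU f U).appTop.hom (fn s) := rfl

/-- `G_a,Y ⟶ f_* G_a,X`. -/
noncomputable def iot {X Y : Scheme.{u}} (f : X ⟶ Y) :
    EtCoh.Ga Y ⟶ (EtCoh.push f).obj (EtCoh.Ga X) :=
  ⟨{ app := fun U => AddCommGrpCat.ofHom (pb f U.unop)
     naturality := by
      intro U V r
      ext s
      apply fn_injective (U := (EtCoh.bc f).obj V.unop)
      change (prU f V.unop).appTop.hom (r.unop.left.appTop.hom (fn (U := U.unop) s)) =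
        ((EtCoh.bc f).map r.unop).left.appTop.hom ((prU f U.unop).appTop.hom (fn (U := U.unop) s))
      rw [← CommRingCat.comp_apply, ← CommRingCat.comp_apply, ← Scheme.Hom.comp_appTop,
        ← Scheme.Hom.comp_appTop, prU_nat] }⟩

theorem iot_app {X Y : Scheme.{u}} (f : X ⟶ Y) (U : Y.Etale) (s : EtCoh.sect (EtCoh.Ga Y) U) :
    (iot f).hom.app (op U) s = pb f U s := rfl

/-- `f⁻¹ G_a,Y ⟶ G_a,X`. -/
noncomputable def hat {X Y : Scheme.{u}} (f : X ⟶ Y) :
    (EtCoh.pull f).obj (EtCoh.Ga Y) ⟶ EtCoh.Ga X :=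
  ((EtCoh.pullPushAdj f).homEquiv _ _).symm (iot f)

/-- The adjoint of a map evaluated on the canonical sections. -/
theorem homEquiv_symm_eta {X Y : Scheme.{u}} (f : X ⟶ Y) {G : EtCoh.Ab Y} {F : EtCoh.Ab X}
    (a : G ⟶ (EtCoh.push f).obj F) (U : Y.Etale) (s : EtCoh.sect G U) :
    (((EtCoh.pullPushAdj f).homEquiv G F).symm a).hom.app _ (eta f G U s) = a.hom.app (op U) s := by
  have h := ((EtCoh.pullPushAdj f).homEquiv G F).apply_symm_apply a
  rw [Adjunction.homEquiv_unit] at h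
  exact congrArg (fun k => k.hom.app (op U) s) h

theorem hat_eta {X Y : Scheme.{u}} (f : X ⟶ Y) (U : Y.Etale) (s : EtCoh.sect (EtCoh.Ga Y) U) :
    (hat f).hom.app _ (eta f (EtCoh.Ga Y) U s) = pb f U s :=
  homEquiv_symm_eta f (iot f) U s

theorem pb_comp {X Y Z : Scheme.{u}} (f : X ⟶ Y) (t : Y ⟶ Z) (f₀ : X ⟶ Z) (w : f ≫ t = f₀)
    (U : Z.Etale) (s : EtCoh.sect (EtCoh.Ga Z) U) :
    pb f ((EtCoh.bc t).obj U) (pb t U s) =
      (EtCoh.Ga X).obj.map (bcComp f t f₀ w U).op (pb f₀ U s) := by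
  apply fn_injective
  rw [fn_pb, fn_pb, fn_map, fn_pb]
  have h := bcComp_left_fst f t f₀ w U
  have h2 := congrArg (fun k => k.appTop.hom (fn s)) h
  simp only [Scheme.Hom.comp_appTop] at h2
  exact h2.symm

/-- Compatibility of `hat` with composition. -/
theorem hat_comp {X Y Z : Scheme.{u}} (f : X ⟶ Y) (t : Y ⟶ Z) (f₀ : X ⟶ Z) (w : f ≫ t = f₀) :
    (EtCoh.pull f).map (hat t) ≫ hat f = th f t f₀ w (EtCoh.Ga Z) ≫ hat f₀ := by
  refine pull_hom_ext₂ f t _ _ fun U s => ?_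
  rw [map_comp_app, map_comp_app, eta_map, hat_eta, hat_eta, th_unit, map_res, hat_eta, pb_comp]

/-- Compatibility of `hat` with endomorphisms of `G_a`. -/
theorem hat_end {X Y : Scheme.{u}} (f : X ⟶ Y) (a : EtCoh.Ga Y ⟶ EtCoh.Ga Y)
    (b : EtCoh.Ga X ⟶ EtCoh.Ga X)
    (h : ∀ (U : Y.Etale) (s : EtCoh.sect (EtCoh.Ga Y) U),
      (prU f U).appTop.hom (fn (a.hom.app (op U) s)) =
        fn (b.hom.app (op ((EtCoh.bc f).obj U)) (pb f U s))) :
    (EtCoh.pull f).map a ≫ hat f = hat f ≫ b := by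
  refine pull_hom_ext f _ _ fun U s => ?_
  rw [map_comp_app, map_comp_app, eta_map, hat_eta, hat_eta]
  apply fn_injective
  exact h U s

theorem prU_toU {X Y : Scheme.{u}} (f : X ⟶ Y) (U : Y.Etale) (a : Γ(Y, ⊤)) :
    (prU f U).appTop.hom (toU U a) = toU ((EtCoh.bc f).obj U) (f.appTop.hom a) := by
  change ((U.hom.appTop ≫ (prU f U).appTop).hom a) =
    ((f.appTop ≫ ((EtCoh.bc f).obj U).hom.appTop).hom a)
  rw [← Scheme.Hom.comp_appTop, ← Scheme.Hom.comp_appTop]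
  have h : prU f U ≫ U.hom = ((EtCoh.bc f).obj U).hom ≫ f := pullback.condition
  rw [h]

/-- Multiplication by functions. -/
theorem hat_smulGa {X Y : Scheme.{u}} (f : X ⟶ Y) (a : Γ(Y, ⊤)) :
    (EtCoh.pull f).map (smulGa Y a) ≫ hat f = hat f ≫ smulGa X (f.appTop.hom a) := by
  refine hat_end f _ _ fun U s => ?_
  rw [fn_smulGa, fn_smulGa, fn_pb, map_mul, prU_toU]

/-- `n`-th power maps. -/
theorem hat_pow {X Y : Scheme.{u}} (f : X ⟶ Y) (n : ℕ) (φ : EtCoh.Ga Y ⟶ EtCoh.Ga Y)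
    (ψ : EtCoh.Ga X ⟶ EtCoh.Ga X)
    (hφ : ∀ (U : Y.Etale) (s : EtCoh.sect (EtCoh.Ga Y) U), fn (φ.hom.app (op U) s) = fn s ^ n)
    (hψ : ∀ (U : X.Etale) (s : EtCoh.sect (EtCoh.Ga X) U), fn (ψ.hom.app (op U) s) = fn s ^ n) :
    (EtCoh.pull f).map φ ≫ hat f = hat f ≫ ψ := by
  refine hat_end f _ _ fun U s => ?_
  rw [hφ, hψ, fn_pb, map_pow]

end Groth.Agent.Sga4h.H913.GaFun
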