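import Groth.Prelude.Def_FinFr
import Groth.Agent.Sga4h.H913.GaFun
import Mathlib.Algebra.Category.Ring.Constructions
import Mathlib.RingTheory.TensorProduct.IsBaseChangeFree
import Mathlib.AlgebraicGeometry.Morphisms.Affine

/-!
# Functions on `U ×_Y Y_K` for `U` affine étale over a `k`-scheme `Y`

For a `k`-basis `e` of `K` they are uniquely finite sums `Σ f_i e_i`, `f_i ∈ Γ(U)`.
-/

set_option autoImplicit false
universe u

open CategoryTheory CategoryTheory.Limits AlgebraicGeometry Opposite

namespace Groth.Agent.Sga4h.H913.GaSect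

open Groth.Agent.Cohder.GaScalar GaFun

section Ring

variable {k K A C : Type u} [Field k] [Field K] [Algebra k K] [CommRing A] [CommRing C]

/-- A basis of `K` over `k` gives a basis of a pushout `C = A ⊗_k K` over `A`. -/
theorem exists_basis_of_isPushout (a : k →+* A) (i : A →+* C) (j : K →+* C)
    (h : IsPushout (CommRingCat.ofHom a) (CommRingCat.ofHom (algebraMap k K))
      (CommRingCat.ofHom i) (CommRingCat.ofHom j)) {ι : Type*} (e : Module.Basis ι k K) :
    letI := i.toAlgebra
    ∃ B : Module.Basis ι A C, ∀ n, B n = j (e n) := by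
  letI i1 : Algebra k A := a.toAlgebra
  letI i2 : Algebra A C := i.toAlgebra
  letI i3 : Algebra K C := j.toAlgebra
  letI i4 : Algebra k C := (j.comp (algebraMap k K)).toAlgebra
  haveI : IsScalarTower k K C := IsScalarTower.of_algebraMap_eq (fun _ => rfl)
  haveI : IsScalarTower k A C := IsScalarTower.of_algebraMap_eq (fun x => by
    have := congr($(h.w).hom x)
    exact this.symm)
  have h2 : Algebra.IsPushout k A K C := CommRingCat.isPushout_iff_isPushout.mp h
  exact ⟨IsBaseChange.basis e h2.out, fun n => IsBaseChange.basis_apply e h2.out n⟩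

end Ring

variable {k : Type u} [Field k] {K : Type u} [Field K] [Algebra k K] {X Y : Scheme.{u}}
  {π : X ⟶ Y} {s : X ⟶ Spec (CommRingCat.of K)} {b : Y ⟶ Spec (CommRingCat.of k)}
  (h : IsPullback π s b (FinFr.specι k K))

include h

theorem isPullback_bc (U : Y.Etale) :
    IsPullback (prU π U) (((EtCoh.bc π).obj U).hom ≫ s) (U.hom ≫ b) (FinFr.specι k K) :=
  (IsPullback.of_hasPullback U.hom π).paste_vert h

/-- The basis of functions on `U ×_Y Y_K`. -/
theorem exists_basis {ι : Type*} (e : Module.Basis ι k K) (U : Y.Etale) (hU : IsAffine U.left) :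
    letI := (prU π U).appTop.hom.toAlgebra
    ∃ B : Module.Basis ι Γ(U.left, ⊤) Γ(((EtCoh.bc π).obj U).left, ⊤),
      ∀ n, B n = toU _ (str s (e n)) := by
  have h1 := isPushout_appTop_of_isPullback (isPullback_bc h U)
  have h2 : IsPushout (Scheme.ΓSpecIso (CommRingCat.of k)).inv (CommRingCat.ofHom (algebraMap k K))
      (FinFr.specι k K).appTop (Scheme.ΓSpecIso (CommRingCat.of K)).inv := by
    refine IsPushout.of_horiz_isIso ⟨?_⟩
    exact (Scheme.ΓSpecIso_inv_naturality (CommRingCat.ofHom (algebraMap k K))).symm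
  have h3 := h2.paste_horiz h1
  exact exists_basis_of_isPushout _ _ _ h3 e

end Groth.Agent.Sga4h.H913.GaSect
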