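import Groth.Agent.Sga4h.H913.Dict
import Groth.Agent.Pi1B.GaFin104
import Groth.Prelude.Def_FixPt

/-!
# Comparison of `H^n_et(X, G_a)` with `H^n_Zar(X, O_X)` : the `q`-power map and its trace
-/

set_option autoImplicit false
universe u

open CategoryTheory CategoryTheory.Limits AlgebraicGeometry Opposite CategoryTheory.Abelian

namespace Groth.Agent.Sga4h.H913.GaZarTr

open Groth.Agent.Cohder Groth.Agent.Cohder.GaScalar Groth.Agent.Etbase Groth.Agent.Etcore TopologicalSpace
open GaFun GaPull GaBC ASX Dict Groth.Agent.Pi1B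

variable {X : Scheme.{u}}

/-- The trace through `FixPt.trAdd`. -/
theorem trAdd_eq {R : Type*} [CommRing R] {V : Type*} [AddCommGroup V] [Module R V]
    (f : V →+ V) (g : V →ₗ[R] V) (h : ∀ x, g x = f x) :
    FixPt.trAdd R V f = LinearMap.trace R V g := by
  classical
  have h1 : ∃ g : V →ₗ[R] V, (g : V → V) = f := ⟨g, funext h⟩
  rw [FixPt.trAdd, dif_pos h1]
  have h2 := Classical.choose_spec h1
  congr 1
  apply LinearMap.ext
  intro x
  exact (congrFun h2 x).trans (h x).symm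

section Short

open scoped Groth.Agent.Etcore.EtInst Groth.Agent.Etbase.ZarEt530
open Groth.Agent.Etcore.EtInst

theorem c2_bijective (n : ℕ) : Function.Bijective (GaFin104.c2 X n) := by
  refine ⟨?_, GaFin104.c2_surjective n⟩
  intro x y hxy
  rw [GaFin104.c2_apply, GaFin104.c2_apply] at hxy
  have h1 := (ZarEt530.zcmp_bijective (EtCoh.Ga X) (GaQC.ga_etAcyc X) n).1 hxy
  have h2 := congrArg (fun z => z.comp (Ext.mk₀ (GaZar.gaIso X).inv) (add_zero n)) h1
  simpa only [Ext.comp_assoc_of_third_deg_zero, Ext.mk₀_comp_mk₀, Iso.hom_inv_id,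
    Ext.comp_mk₀_id] using h2

theorem c2_nat (e₀ : GaZar.OX X ⟶ GaZar.OX X) (e : EtCoh.Ga X ⟶ EtCoh.Ga X)
    (h : ∀ (U : X.Opens) (s : (GaZar.OX X).obj.obj (op U)),
      fn (e.hom.app (op ((EtZar.zarToEt X).obj U)) (ofFn (U.topIso.inv.hom (GaZar.sec X s)))) =
        U.topIso.inv.hom (GaZar.sec X (e₀.hom.app (op U) s))) (n : ℕ)
    (x : ZarEt530.ZH ((ZarUlift.UL (Opens.grothendieckTopology X)).obj (GaZar.OX X)) n) :
    GaFin104.c2 X n (x.comp (Ext.mk₀ ((ZarUlift.UL (Opens.grothendieckTopology X)).map e₀))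
      (add_zero n)) = HHmap e n (GaFin104.c2 X n x) := by
  rw [GaFin104.c2_apply, GaFin104.c2_apply, Ext.comp_assoc_of_third_deg_zero, Ext.mk₀_comp_mk₀,
    GaZar.gaIso_naturality X e₀ e h, ← Ext.mk₀_comp_mk₀, ← Ext.comp_assoc_of_third_deg_zero,
    ZarEt530.zcmp_naturality, HHmap_apply]

theorem c2_smul (a : Γ(X, ⊤)) (n : ℕ)
    (x : ZarEt530.ZH ((ZarUlift.UL (Opens.grothendieckTopology X)).obj (GaZar.OX X)) n) :
    GaFin104.c2 X n (x.comp (Ext.mk₀ ((ZarUlift.UL (Opens.grothendieckTopology X)).map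
      (Coh.smulAb (Coh.structureModule X) a))) (add_zero n)) =
      HHmap (smulGa X a) n (GaFin104.c2 X n x) := by
  rw [GaFin104.c2_apply, GaFin104.c2_apply, Ext.comp_assoc_of_third_deg_zero, Ext.mk₀_comp_mk₀,
    GaZar.gaIso_smul, ← Ext.mk₀_comp_mk₀, ← Ext.comp_assoc_of_third_deg_zero,
    ZarEt530.zcmp_naturality, HHmap_apply]

/-- Iterates of the Frobenius. -/
noncomputable def phiN {p : ℕ} [Fact p.Prime] (hX : (p : Γ(X, ⊤)) = 0) : ℕ → (EtCoh.Ga X ⟶ EtCoh.Ga X)
  | 0 => 𝟙 _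
  | m + 1 => phiN hX m ≫ phi hX

theorem fn_phiN {p : ℕ} [Fact p.Prime] (hX : (p : Γ(X, ⊤)) = 0) (m : ℕ) (U : X.Etale)
    (s : EtCoh.sect (EtCoh.Ga X) U) :
    fn ((phiN hX m).hom.app (op U) s) = fn s ^ p ^ m := by
  induction m with
  | zero => rw [pow_zero, pow_one]; rfl
  | succ m ih =>
    have h1 : fn ((phiN hX (m + 1)).hom.app (op U) s) =
        fn ((phi hX).hom.app (op U) ((phiN hX m).hom.app (op U) s)) := rfl
    rw [h1, fn_phi, ih, ← pow_mul, ← pow_succ]

theorem HHmap_phiN {p : ℕ} [Fact p.Prime] (hX : (p : Γ(X, ⊤)) = 0) (m n : ℕ)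
    (x : HH X (EtCoh.Ga X) n) : HHmap (phiN hX m) n x = (HHmap (phi hX) n)^[m] x := by
  induction m with
  | zero => exact HHmap_id _ _ _
  | succ m ih => rw [phiN, HHmap_comp, ih, Function.iterate_succ_apply']

variable {k : Type u} [Field k] (b : X ⟶ Spec (CommRingCat.of k)) (n : ℕ)
    {M : Type u} [AddCommGroup M] [Module k M]
    (e : M →+ ZarEt530.ZH ((ZarUlift.UL (Opens.grothendieckTopology X)).obj (GaZar.OX X)) n)
    (he : Function.Bijective e)
    (hs : ∀ (c : k) (x : M), e (c • x) = (e x).comp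
      (Ext.mk₀ ((ZarUlift.UL (Opens.grothendieckTopology X)).map
        (Coh.smulAb (Coh.structureModule X) (GaScalar.str b c)))) (add_zero n))

include he hs in
/-- The linear comparison. -/
theorem exists_linEquiv :
    letI := gaMod b n
    ∃ E : M ≃ₗ[k] HH X (EtCoh.Ga X) n, ∀ x, E x = GaFin104.c2 X n (e x) := by
  let _ := gaMod b n
  let L : M →ₗ[k] HH X (EtCoh.Ga X) n :=
    { (GaFin104.c2 X n).comp e with
      map_smul' := fun c x => by
        change GaFin104.c2 X n (e (c • x)) = _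
        rw [hs, c2_smul]
        rfl }
  exact ⟨LinearEquiv.ofBijective L ((c2_bijective n).comp he), fun x => rfl⟩

include he hs in
theorem finite_short [Module.Finite k M] :
    letI := gaMod b n
    Module.Finite k (HH X (EtCoh.Ga X) n) := by
  let _ := gaMod b n
  obtain ⟨E, -⟩ := exists_linEquiv b n e he hs
  exact Module.Finite.equiv E

include he hs in
theorem trace_short (t : M →ₗ[k] M)
    (e₀ : GaZar.OX X ⟶ GaZar.OX X) (ψ : EtCoh.Ga X ⟶ EtCoh.Ga X)
    (h : ∀ (U : X.Opens) (s : (GaZar.OX X).obj.obj (op U)),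
      fn (ψ.hom.app (op ((EtZar.zarToEt X).obj U)) (ofFn (U.topIso.inv.hom (GaZar.sec X s)))) =
        U.topIso.inv.hom (GaZar.sec X (e₀.hom.app (op U) s)))
    (ht : ∀ x, e (t x) = (e x).comp
      (Ext.mk₀ ((ZarUlift.UL (Opens.grothendieckTopology X)).map e₀)) (add_zero n)) :
    letI := gaMod b n
    ∃ T : HH X (EtCoh.Ga X) n →ₗ[k] HH X (EtCoh.Ga X) n, (∀ x, T x = HHmap ψ n x) ∧
      LinearMap.trace k _ T = LinearMap.trace k _ t := by
  let _ := gaMod b n
  obtain ⟨E, hE⟩ := exists_linEquiv b n e he hs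
  refine ⟨E.conj t, ?_, LinearMap.trace_conj' t E⟩
  intro x
  obtain ⟨y, rfl⟩ := E.surjective x
  rw [LinearEquiv.conj_apply, LinearMap.comp_apply, LinearMap.comp_apply]
  change E (t (E.symm (E y))) = _
  rw [E.symm_apply_apply, hE, hE, ht, c2_nat e₀ ψ h]

end Short

/-! ### The `q`-power map on the Zariski structure sheaf -/

theorem add_pow_of_cast {R : Type*} [CommRing R] {p : ℕ} [hp : Fact p.Prime] (h : (p : R) = 0)
    (x y : R) (f : ℕ) : (x + y) ^ p ^ f = x ^ p ^ f + y ^ p ^ f := by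
  rcases subsingleton_or_nontrivial R with h1 | h1
  · exact Subsingleton.elim _ _
  · have : CharP R p := (CharP.charP_iff_prime_eq_zero hp.out).2 h
    exact add_pow_char_pow x y p f

/-- The `q`-power map, `q = p ^ f`, on the structure sheaf of a scheme of characteristic `p`. -/
noncomputable def powZ {p : ℕ} [Fact p.Prime] (hX : (p : Γ(X, ⊤)) = 0) (f : ℕ) :
    GaZar.OX X ⟶ GaZar.OX X :=
  ⟨{ app := fun U => AddCommGrpCat.ofHom
      { toFun := fun s => GaZar.ofSec X (U := U.unop) (GaZar.sec X (U := U.unop) s ^ p ^ f)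
        map_zero' := by
          have hp : p ^ f ≠ 0 := pow_ne_zero _ (Fact.out : p.Prime).ne_zero
          exact zero_pow (M₀ := Γ(X, U.unop)) hp
        map_add' := fun s t => by
          have h1 : (p : Γ(X, U.unop)) = 0 := by
            have h2 := congrArg (X.presheaf.map (homOfLE (le_top (a := U.unop))).op).hom hX
            rwa [map_natCast, map_zero] at h2
          exact add_pow_of_cast h1 (GaZar.sec X (U := U.unop) s) (GaZar.sec X (U := U.unop) t) f }
     naturality := by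
      intro U V h
      ext s
      exact (map_pow (X.presheaf.map h).hom (GaZar.sec X (U := U.unop) s) (p ^ f)).symm }⟩

theorem sec_powZ {p : ℕ} [Fact p.Prime] (hX : (p : Γ(X, ⊤)) = 0) (f : ℕ) {U : X.Opens}
    (s : (GaZar.OX X).obj.obj (op U)) :
    GaZar.sec X ((powZ hX f).hom.app (op U) s) = GaZar.sec X s ^ p ^ f := rfl

end Groth.Agent.Sga4h.H913.GaZarTr
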