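import Groth.Agent.Sga4h.H913.GaZarTr

/-!
# The trace of the `q`-power map on `H^n_et(X, G_a)` and on `H^n(X, O_X)`
-/

set_option autoImplicit false
universe u

open CategoryTheory CategoryTheory.Limits AlgebraicGeometry Opposite CategoryTheory.Abelian

namespace Groth.Agent.Sga4h.H913.GaZarTr2

open Groth.Agent.Cohder Groth.Agent.Cohder.GaScalar Groth.Agent.Etbase Groth.Agent.Etcore TopologicalSpace
open GaFun GaPull GaBC ASX Dict Groth.Agent.Pi1B GaZarTr

variable {X : Scheme.{u}} {p : ℕ} [Fact p.Prime] {k : Type u} [Field k]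
  (b : X ⟶ Spec (CommRingCat.of k)) (hX : (p : Γ(X, ⊤)) = 0) (f : ℕ)
  (hq : ∀ c : k, c ^ p ^ f = c)

/-- A morphism which is the `q`-power map on sections is `powZ`. -/
theorem eq_powZ (φ : GaZar.OX X ⟶ GaZar.OX X)
    (hφ : ∀ (U : (X.Opens)ᵒᵖ) (a : X.ringCatSheaf.obj.obj U), φ.hom.app U a = a ^ p ^ f) :
    φ = powZ hX f := by
  apply Sheaf.hom_ext
  ext U s
  exact hφ U s

theorem powZ_app (U : (X.Opens)ᵒᵖ) (a : X.ringCatSheaf.obj.obj U) :
    (powZ hX f).hom.app U a = a ^ p ^ f := rfl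

include hq in
theorem smulAb_powZ (c : k) :
    Coh.smulAb (Coh.structureModule X) (Coh.toGlobal b c) ≫ powZ hX f =
      powZ hX f ≫ Coh.smulAb (Coh.structureModule X) (Coh.toGlobal b c) := by
  apply Sheaf.hom_ext
  ext U s
  let s' : Γ(X, U.unop) := s
  let r : Γ(X, U.unop) := (X.presheaf.map (homOfLE (le_top (a := U.unop))).op).hom (Coh.toGlobal b c)
  change (r * s') ^ p ^ f = r * s' ^ p ^ f
  rw [mul_pow]
  congr 1
  change ((X.presheaf.map (homOfLE (le_top (a := U.unop))).op).hom (Coh.toGlobal b c)) ^ p ^ f = _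
  rw [← map_pow]
  congr 1
  exact ((map_pow (Coh.toGlobal b) c (p ^ f)).symm).trans (congrArg (Coh.toGlobal b) (hq c))

include hq in
theorem map_powZ_smul (n : ℕ) (c : k) (x : Coh.HH X (Coh.structureModule X) n) :
    Sheaf.H.map (powZ hX f) n
        (Sheaf.H.map (Coh.smulAb (Coh.structureModule X) (Coh.toGlobal b c)) n x) =
        Sheaf.H.map (Coh.smulAb (Coh.structureModule X) (Coh.toGlobal b c)) n
          (Sheaf.H.map (powZ hX f) n x) := by
  rw [← Sheaf.H.map_comp_apply, ← Sheaf.H.map_comp_apply, smulAb_powZ b hX f hq]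

/-- The `q`-power map on coherent cohomology as a linear map. -/
noncomputable def powLin (n : ℕ) :
    letI : X.Over (Spec (CommRingCat.of k)) := ⟨b⟩
    Coh.HH X (Coh.structureModule X) n →ₗ[k] Coh.HH X (Coh.structureModule X) n :=
  letI : X.Over (Spec (CommRingCat.of k)) := ⟨b⟩
  { toFun := Sheaf.H.map (powZ hX f) n
    map_add' := fun x y => map_add _ x y
    map_smul' := fun c x => map_powZ_smul b hX f hq n c x }

section Short

open scoped Groth.Agent.Etcore.EtInst Groth.Agent.Etbase.ZarEt530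
open Groth.Agent.Etcore.EtInst

theorem trace_main (n : ℕ) {M : Type u} [AddCommGroup M] [Module k M]
    (e : M →+ ZarEt530.ZH ((ZarUlift.UL (Opens.grothendieckTopology X)).obj (GaZar.OX X)) n)
    (he : Function.Bijective e)
    (hs : ∀ (c : k) (x : M), e (c • x) = (e x).comp
      (Ext.mk₀ ((ZarUlift.UL (Opens.grothendieckTopology X)).map
        (Coh.smulAb (Coh.structureModule X) (GaScalar.str b c)))) (add_zero n))
    (t : M →ₗ[k] M)
    (ht : ∀ x, e (t x) = (e x).comp
      (Ext.mk₀ ((ZarUlift.UL (Opens.grothendieckTopology X)).map (powZ hX f))) (add_zero n)) :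
    letI := gaMod b n
    ∃ T : HH X (EtCoh.Ga X) n →ₗ[k] HH X (EtCoh.Ga X) n,
      (∀ x, T x = (HHmap (phi hX) n)^[f] x) ∧ LinearMap.trace k _ T = LinearMap.trace k _ t := by
  let _ := gaMod b n
  obtain ⟨T, hT, htr⟩ := trace_short b n e he hs t (powZ hX f) (phiN hX f) (fun U s => by
    rw [fn_phiN, fn_ofFn, sec_powZ, map_pow]
    rfl) ht
  exact ⟨T, fun x => by rw [hT, HHmap_phiN], htr⟩

end Short

include hq in
/-- **Comparison of traces.** -/
theorem exists_T (n : ℕ)
    (hfin : letI : X.Over (Spec (CommRingCat.of k)) := ⟨b⟩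
      Module.Finite k (Coh.HH X (Coh.structureModule X) n))
    (φ : GaZar.OX X ⟶ GaZar.OX X)
    (hφ : ∀ (U : (X.Opens)ᵒᵖ) (a : X.ringCatSheaf.obj.obj U), φ.hom.app U a = a ^ p ^ f) :
    letI : X.Over (Spec (CommRingCat.of k)) := ⟨b⟩
    letI := gaMod b n
    Module.Finite k (EtInst.HH X (EtCoh.Ga X) n) ∧
    ∃ T : EtInst.HH X (EtCoh.Ga X) n →ₗ[k] EtInst.HH X (EtCoh.Ga X) n,
      (∀ x, T x = (EtInst.HHmap (phi hX) n)^[f] x) ∧
        LinearMap.trace k _ T =
          FixPt.trAdd k (Coh.HH X (Coh.structureModule X) n) (Sheaf.H.map φ n) := by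
  let _ : X.Over (Spec (CommRingCat.of k)) := ⟨b⟩
  let _ := gaMod b n
  have := hfin
  have hc : Function.Bijective (GaFin104.c1 X n) := ZarUlift.hMap_bijective _ (GaZar.OX X) n
  refine ⟨finite_short b n (GaFin104.c1 X n) hc (fun c x => GaFin104.c1_smul n _ x), ?_⟩
  rw [eq_powZ hX f φ hφ]
  obtain ⟨T, hT, htr⟩ := trace_main b hX f n (GaFin104.c1 X n) hc
    (fun c x => GaFin104.c1_smul n _ x) (powLin b hX f hq n)
    (fun x => ZarUlift.hMap_naturality _ (powZ hX f) n x)
  exact ⟨T, hT, htr.trans (trAdd_eq _ (powLin b hX f hq n) (fun _ => rfl)).symm⟩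

end Groth.Agent.Sga4h.H913.GaZarTr2
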