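import Groth.Agent.Sga4h.H913.TraceSub
import Groth.Agent.Sga67.QLinear
import Groth.Agent.CurvesA.ASAlg
import Mathlib.RingTheory.IsTensorProduct
import Mathlib.RingTheory.Artinian.Module
import Mathlib.LinearAlgebra.TensorProduct.Tower

/-!
# Linear algebra of the trace formula modulo `p`

`K` algebraically closed of characteristic `p`, `W` a finite dimensional `K`-vector space with a `p`-linear
endomorphism `φ`, `V = W^{φ = 1}`.  If `T` is a `K`-linear endomorphism preserving `V` and, on `W`, mapping
everything eventually into the span of `V`, then `Tr_K(T | W) = Tr_{F_p}(T | V)`.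
-/

set_option autoImplicit false
universe u v w v'

namespace Groth.Agent.Sga4h.H913.LinTrace

open Groth.Agent.CurvesA.ASAlg

variable {K : Type u} [Field K] (p : ℕ) [hp : Fact p.Prime]

theorem exists_zmod_of_pow_eq (h0 : (p : K) = 0) (c : K) (hc : c ^ p = c) :
    ∃ a : ZMod p, zmodHom K p h0 a = c := by
  have h1 : ∏ j : ZMod p, (c - zmodHom K p h0 j) = 0 := by
    rw [prod_sub, hc, sub_self]
  obtain ⟨a, -, ha⟩ := Finset.prod_eq_zero_iff.1 h1
  exact ⟨a, (sub_eq_zero.1 ha).symm⟩

section Fixed

variable {W : Type w} [AddCommGroup W] [Module K W] (φ : W →+ W)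

/-- Iterates of `φ` eventually land in the span of the fixed vectors. -/
theorem iterate_mem_span_fixed [IsSepClosed K] [FiniteDimensional K W] (h0 : (p : K) = 0)
    (hφ : ∀ (c : K) (v : W), φ (c • v) = c ^ p • φ v) :
    ∃ n₀ : ℕ, ∀ n, n₀ ≤ n →
      Submodule.span K (Set.range (φ^[n])) ≤ Submodule.span K {v : W | φ v = v} := by
  let S : ℕ → Submodule K W := fun n => Submodule.span K (Set.range (φ^[n]))
  have hS : ∀ n, S (n + 1) ≤ S n := by
    intro n
    refine Submodule.span_mono ?_
    rintro _ ⟨x, rfl⟩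
    exact ⟨φ x, (Function.iterate_succ_apply φ n x).symm⟩
  have hanti : Antitone S := antitone_nat_of_succ_le hS
  obtain ⟨n₀, hn₀⟩ := IsArtinian.monotone_stabilizes (⟨fun n => OrderDual.toDual (S n), hanti⟩ :
    ℕ →o (Submodule K W)ᵒᵈ)
  have hstab : ∀ m, n₀ ≤ m → S n₀ = S m := fun m hm => hn₀ m hm
  have hmap : ∀ n, ∀ x ∈ S n, φ x ∈ S (n + 1) := by
    intro n x hx
    induction hx using Submodule.span_induction with
    | mem x hx =>
      obtain ⟨y, rfl⟩ := hx
      refine Submodule.subset_span ⟨y, ?_⟩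
      exact Function.iterate_succ_apply' φ n y
    | zero => rw [map_zero]; exact Submodule.zero_mem _
    | add x y _ _ hx hy => rw [map_add]; exact Submodule.add_mem _ hx hy
    | smul a x _ hx => rw [hφ]; exact Submodule.smul_mem _ _ hx
  have hmap0 : ∀ x ∈ S n₀, φ x ∈ S n₀ := fun x hx => hS n₀ (hmap n₀ x hx)
  let ψ : S n₀ →+ S n₀ :=
    { toFun := fun x => ⟨φ x.1, hmap0 x.1 x.2⟩
      map_zero' := by ext; simp
      map_add' := by intro x y; ext; simp }
  have hψ : ∀ (c : K) (v : S n₀), ψ (c • v) = c ^ p • ψ v := by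
    intro c v; ext; simp [ψ, hφ]
  have hspan : Submodule.span K (Set.range ψ) = ⊤ := by
    rw [eq_top_iff]
    rintro ⟨x, hx⟩ -
    have hx' : x ∈ S (n₀ + 1) := by rw [← hstab (n₀ + 1) (Nat.le_succ _)]; exact hx
    have key : ∀ x ∈ S (n₀ + 1), ∃ y ∈ Submodule.span K (Set.range ψ), (y : W) = x := by
      intro x hx
      induction hx using Submodule.span_induction with
      | mem x hx =>
        obtain ⟨y, rfl⟩ := hx
        refine ⟨ψ ⟨φ^[n₀] y, Submodule.subset_span ⟨y, rfl⟩⟩, Submodule.subset_span ⟨_, rfl⟩, ?_⟩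
        exact (Function.iterate_succ_apply' φ n₀ y).symm
      | zero => exact ⟨0, Submodule.zero_mem _, rfl⟩
      | add x y _ _ hx hy =>
        obtain ⟨a, ha, rfl⟩ := hx
        obtain ⟨b, hb, rfl⟩ := hy
        exact ⟨a + b, Submodule.add_mem _ ha hb, rfl⟩
      | smul c x _ hx =>
        obtain ⟨a, ha, rfl⟩ := hx
        exact ⟨c • a, Submodule.smul_mem _ _ ha, rfl⟩
    obtain ⟨y, hy, hyx⟩ := key x hx'
    have : y = ⟨x, hx⟩ := Subtype.ext hyx
    exact this ▸ hy
  have hfix := Sga67.QLinear.span_fixed_eq_top p hp.out.one_lt h0 ψ hψ hspan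
  refine ⟨n₀, fun n hn => ?_⟩
  change S n ≤ _
  rw [← hstab n hn]
  intro x hx
  have hx' : (⟨x, hx⟩ : S n₀) ∈ Submodule.span K {v : S n₀ | ψ v = v} := by rw [hfix]; trivial
  have key : ∀ y ∈ Submodule.span K {v : S n₀ | ψ v = v},
      (y : W) ∈ Submodule.span K {v : W | φ v = v} := by
    intro y hy
    induction hy using Submodule.span_induction with
    | mem y hy => exact Submodule.subset_span (congrArg Subtype.val hy)
    | zero => exact Submodule.zero_mem _
    | add x y _ _ hx hy => exact Submodule.add_mem _ hx hy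
    | smul c x _ hx => exact Submodule.smul_mem _ _ hx
  exact key _ hx'

/-- A basis of the fixed vectors which is linearly independent over `K`. -/
theorem exists_basis [FiniteDimensional K W] (h0 : (p : K) = 0)
    (hφ : ∀ (c : K) (v : W), φ (c • v) = c ^ p • φ v)
    {V : Type v} [AddCommGroup V] [Module (ZMod p) V] (α : V →+ W) (hα : Function.Injective α)
    (hr : ∀ w, (∃ v, α v = w) ↔ φ w = w)
    (hs : ∀ (a : ZMod p) (v : V), α (a • v) = zmodHom K p h0 a • α v) :
    ∃ (b : Set W) (_ : b.Finite) (e : Module.Basis b (ZMod p) V),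
      (∀ i, α (e i) = i) ∧ LinearIndependent K ((↑) : b → W) ∧
      Submodule.span K b = Submodule.span K {v : W | φ v = v} := by
  classical
  obtain ⟨b, hbS, hspan, hli⟩ := exists_linearIndependent K {v : W | φ v = v}
  have hbfin : b.Finite := hli.setFinite
  have : Fintype b := hbfin.fintype
  have hex : ∀ i : b, ∃ v, α v = i := fun i => (hr _).2 (hbS i.2)
  choose e he using hex
  have hli' : LinearIndependent (ZMod p) e := by
    rw [Fintype.linearIndependent_iff]
    intro c hc i
    have h1 : ∑ i, zmodHom K p h0 (c i) • (i : W) = 0 := by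
      have := congrArg α hc
      rw [map_sum, map_zero] at this
      rw [← this]
      refine Finset.sum_congr rfl fun j _ => ?_
      rw [hs, he]
    have h2 := Fintype.linearIndependent_iff.1 hli _ h1 i
    exact (RingHom.injective (zmodHom K p h0)) (by rw [h2, map_zero])
  have hsp : ⊤ ≤ Submodule.span (ZMod p) (Set.range e) := by
    rintro v -
    have hv : φ (α v) = α v := (hr _).1 ⟨v, rfl⟩
    have hmem : α v ∈ Submodule.span K (Set.range (fun i : b => (i : W))) := by
      rw [Subtype.range_coe, hspan]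
      exact Submodule.subset_span hv
    rw [Submodule.mem_span_range_iff_exists_fun] at hmem
    obtain ⟨c, hc⟩ := hmem
    have h1 : φ (α v) = ∑ i, (c i) ^ p • (i : W) := by
      rw [← hc, map_sum]
      refine Finset.sum_congr rfl fun i _ => ?_
      rw [hφ]
      rw [show φ (i : W) = i from hbS i.2]
    have h2 : ∑ i : b, ((c i) ^ p - c i) • (i : W) = 0 := by
      simp only [sub_smul, Finset.sum_sub_distrib]
      rw [← h1, hc, hv, sub_self]
    have h3 := Fintype.linearIndependent_iff.1 hli _ h2
    have h4 : ∀ i, ∃ a : ZMod p, zmodHom K p h0 a = c i := fun i =>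
      exists_zmod_of_pow_eq p h0 _ (sub_eq_zero.1 (h3 i))
    choose a ha using h4
    have h5 : v = ∑ i, a i • e i := by
      apply hα
      rw [map_sum, ← hc]
      refine Finset.sum_congr rfl fun i _ => ?_
      rw [hs, ha, he]
    rw [h5]
    exact Submodule.sum_mem _ fun i _ => Submodule.smul_mem _ _ (Submodule.subset_span ⟨i, rfl⟩)
  refine ⟨b, hbfin, Module.Basis.mk hli' hsp, fun i => ?_, hli, hspan⟩
  rw [Module.Basis.mk_apply, he]

/-- `Tr_K(T | W) = Tr_{F_p}(F | V)`. -/
theorem trace_eq [FiniteDimensional K W] (h0 : (p : K) = 0)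
    (hφ : ∀ (c : K) (v : W), φ (c • v) = c ^ p • φ v)
    {V : Type v} [AddCommGroup V] [Module (ZMod p) V] (α : V →+ W) (hα : Function.Injective α)
    (hr : ∀ w, (∃ v, α v = w) ↔ φ w = w)
    (hs : ∀ (a : ZMod p) (v : V), α (a • v) = zmodHom K p h0 a • α v)
    (F : V →ₗ[ZMod p] V) (T : W →ₗ[K] W) (hT : ∀ v, T (α v) = α (F v)) (N : ℕ)
    (hN : ∀ x, (T ^ N) x ∈ Submodule.span K {v : W | φ v = v}) :
    Module.Finite (ZMod p) V ∧
    LinearMap.trace K W T = zmodHom K p h0 (LinearMap.trace (ZMod p) V F) := by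
  classical
  obtain ⟨b, hbfin, e, he, hli, hspan⟩ := exists_basis p φ h0 hφ α hα hr hs
  have : Fintype b := hbfin.fintype
  refine ⟨Module.Finite.of_basis e, ?_⟩
  let W' : Submodule K W := Submodule.span K {v : W | φ v = v}
  have hW' : ∀ x ∈ W', T x ∈ W' := by
    intro x hx
    induction hx using Submodule.span_induction with
    | mem x hx =>
      obtain ⟨v, rfl⟩ := (hr x).2 hx
      rw [hT]
      exact Submodule.subset_span ((hr _).1 ⟨_, rfl⟩)
    | zero => rw [map_zero]; exact Submodule.zero_mem _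
    | add x y _ _ hx hy => rw [map_add]; exact Submodule.add_mem _ hx hy
    | smul a x _ hx => rw [map_smul]; exact Submodule.smul_mem _ _ hx
  rw [TraceSub.trace_restrict_of_pow N T W' hW' hN]
  let f : b → W' := fun i => ⟨i, by
    change (i : W) ∈ Submodule.span K {v : W | φ v = v}
    rw [← hspan]; exact Submodule.subset_span i.2⟩
  have hlif : LinearIndependent K f := by
    apply LinearIndependent.of_comp W'.subtype
    exact hli
  have hspf : ⊤ ≤ Submodule.span K (Set.range f) := by
    rintro ⟨x, hx⟩ -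
    have hx' : x ∈ Submodule.span K (Set.range (fun i : b => (i : W))) := by
      rw [Subtype.range_coe, hspan]; exact hx
    rw [Submodule.mem_span_range_iff_exists_fun] at hx'
    obtain ⟨c, hc⟩ := hx'
    have : (⟨x, hx⟩ : W') = ∑ i, c i • f i := by
      apply Subtype.ext
      refine hc.symm.trans ?_
      simp [f]
    rw [this]
    exact Submodule.sum_mem _ fun i _ => Submodule.smul_mem _ _ (Submodule.subset_span ⟨i, rfl⟩)
  let B : Module.Basis b K W' := Module.Basis.mk hlif hspf
  have hB : ∀ i, B i = f i := fun i => Module.Basis.mk_apply _ _ _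
  rw [LinearMap.trace_eq_matrix_trace K B, LinearMap.trace_eq_matrix_trace (ZMod p) e,
    Matrix.trace, Matrix.trace, map_sum]
  refine Finset.sum_congr rfl fun i _ => ?_
  rw [Matrix.diag_apply, Matrix.diag_apply, LinearMap.toMatrix_apply, LinearMap.toMatrix_apply]
  have h1 : (T.restrict hW') (B i) = ∑ j, zmodHom K p h0 (e.repr (F (e i)) j) • B j := by
    apply Subtype.ext
    rw [hB]
    change T (i : W) = _
    rw [← he i, hT]
    conv_lhs => rw [← e.sum_repr (F (e i))]
    rw [map_sum, AddSubmonoidClass.coe_finsetSum]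
    refine Finset.sum_congr rfl fun j _ => ?_
    rw [hs, he, hB]
    rfl
  rw [h1, map_sum, Finsupp.finsetSum_apply, Finset.sum_eq_single i]
  · rw [map_smul, Finsupp.smul_apply, B.repr_self, Finsupp.single_eq_same, smul_eq_mul, mul_one]
  · intro j _ hj
    rw [map_smul, Finsupp.smul_apply, B.repr_self, Finsupp.single_eq_of_ne hj.symm, smul_zero]
  · intro h; exact absurd (Finset.mem_univ i) h

end Fixed

end Groth.Agent.Sga4h.H913.LinTrace
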