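import Mathlib.LinearAlgebra.Trace
import Mathlib.LinearAlgebra.FiniteDimensional.Lemmas
import Mathlib.RingTheory.TensorProduct.Basic

/-!
# Traces on stable subspaces containing the image of a power
-/

set_option autoImplicit false
universe u v w

namespace Groth.Agent.Sga4h.H913.TraceSub

variable {K : Type u} [Field K]

theorem trace_restrict_comap {W : Type v} [AddCommGroup W] [Module K W] (T : W →ₗ[K] W)
    (W₁ W₂ : Submodule K W) (hle : W₂ ≤ W₁) (h₁ : ∀ x ∈ W₁, T x ∈ W₁) (h₂ : ∀ x ∈ W₂, T x ∈ W₂)
    (h₃ : ∀ x ∈ W₂.comap W₁.subtype, (T.restrict h₁) x ∈ W₂.comap W₁.subtype) :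
    LinearMap.trace K _ ((T.restrict h₁).restrict h₃) = LinearMap.trace K _ (T.restrict h₂) := by
  let e : (W₂.comap W₁.subtype) ≃ₗ[K] W₂ := Submodule.submoduleOfEquivOfLe hle
  have h : e.conj ((T.restrict h₁).restrict h₃) = T.restrict h₂ := by
    ext x
    rfl
  rw [← h, LinearMap.trace_conj']

theorem trace_restrict_of_mem {W : Type v} [AddCommGroup W] [Module K W] [FiniteDimensional K W]
    (T : W →ₗ[K] W) (W' : Submodule K W) (h : ∀ x, T x ∈ W') (h' : ∀ x ∈ W', T x ∈ W') :
    LinearMap.trace K W' (T.restrict h') = LinearMap.trace K W T := by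
  have h1 : T = W'.subtype ∘ₗ (T.codRestrict W' h) := rfl
  have h2 : T.restrict h' = (T.codRestrict W' h) ∘ₗ W'.subtype := rfl
  rw [h2, LinearMap.trace_comp_comm', ← h1]

/-- If `T` maps `W'` into itself and some power of `T` maps everything into `W'`, the trace of `T` is
the trace of its restriction to `W'`. -/
theorem trace_restrict_of_pow : ∀ (N : ℕ) {W : Type v} [AddCommGroup W] [Module K W]
    [FiniteDimensional K W] (T : W →ₗ[K] W) (W' : Submodule K W) (h : ∀ x ∈ W', T x ∈ W')
    (_ : ∀ x, (T ^ N) x ∈ W'), LinearMap.trace K W T = LinearMap.trace K W' (T.restrict h)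
  | 0, W, _, _, _, T, W', h, hN => by
    have h1 : ∀ x, T x ∈ W' := fun x => hN (T x)
    exact (trace_restrict_of_mem T W' h1 h).symm
  | (N + 1), W, _, _, _, T, W', h, hN => by
    let W₁ : Submodule K W := W' ⊔ LinearMap.range T
    have h1 : ∀ x, T x ∈ W₁ := fun x => Submodule.mem_sup_right ⟨x, rfl⟩
    have h1' : ∀ x ∈ W₁, T x ∈ W₁ := fun x _ => h1 x
    rw [← trace_restrict_of_mem T W₁ h1 h1']
    have h3 : ∀ x ∈ W'.comap W₁.subtype, (T.restrict h1') x ∈ W'.comap W₁.subtype := by
      intro x hx
      exact h _ hx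
    rw [trace_restrict_of_pow N (T.restrict h1') (W'.comap W₁.subtype) h3 ?_]
    · exact trace_restrict_comap T W₁ W' le_sup_left h1' h h3
    · rintro ⟨x, hx⟩
      have key : ∀ (n : ℕ) (y : W₁), (((T.restrict h1') ^ n) y : W) = (T ^ n) (y : W) := by
        intro n
        induction n with
        | zero => intro y; rfl
        | succ n ih =>
          intro y
          rw [pow_succ, pow_succ, Module.End.mul_apply, Module.End.mul_apply, ih]
          rfl
      change (((T.restrict h1') ^ N) ⟨x, hx⟩ : W) ∈ W'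
      rw [key]
      have hpow : ∀ (n : ℕ) (y : W), y ∈ W' → (T ^ n) y ∈ W' := by
        intro n
        induction n with
        | zero => intro y hy; exact hy
        | succ n ih =>
          intro y hy
          rw [pow_succ, Module.End.mul_apply]
          exact ih _ (h _ hy)
      obtain ⟨y, hy, z, ⟨t, rfl⟩, rfl⟩ := Submodule.mem_sup.1 hx
      change (T ^ N) (y + T t) ∈ W'
      rw [map_add]
      refine W'.add_mem (hpow N y hy) ?_
      have := hN t
      rwa [pow_succ, Module.End.mul_apply] at this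

end Groth.Agent.Sga4h.H913.TraceSub
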